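import Mathlib
import Cfsg.Agent.H383.Cube.Num
import Cfsg.Agent.Nodes.TypeD
import Cfsg.Agent.KFacts.RgdDiag

/-!
# The Weyl group of type `D_{n+2}`: Poincaré polynomial (helper475, for S5721)

`act cs : W →* Perm (Fin (n+2) × Bool)`, the action on signed indices; `sum_D`.
-/

set_option autoImplicit false

namespace Cfsg.Agent.H475.CoxD

open CoxeterSystem Cfsg.Agent.ChevalleyStructure.CoxeterGeom Cfsg.Agent.Tits.Roots
  Cfsg.Agent.Nodes.TypeD Cfsg.Agent.H383.Cube
open Cfsg.Agent.Nodes.TypeC (wt ng wt_ng ng_ng ng_fst ng_snd wt_apply)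

variable {n : ℕ} {W : Type*} [Group W] (cs : CoxeterSystem (M n) W)

/-- the simple reflections as permutations of the signed indices -/
def sgE (i : Fin (n + 2)) : Equiv.Perm (Fin (n + 2) × Bool) := ⟨sg i, sg i, sg_sg i, sg_sg i⟩

@[simp] theorem sgE_apply (i : Fin (n + 2)) (x : Fin (n + 2) × Bool) : sgE i x = sg i x := rfl

/-- the action on signed indices -/
def act : W →* Equiv.Perm (Fin (n + 2) × Bool) :=
  cs.lift ⟨sgE, fun i j => by
    ext1 x
    have h1 : ∀ k : ℕ, ∀ x, ((sgE i * sgE j) ^ k : Equiv.Perm (Fin (n + 2) × Bool)) x = (fun y => sg i (sg j y))^[k] x := by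
      intro k
      induction k with
      | zero => intro x; rfl
      | succ k ih => intro x; rw [pow_succ, Equiv.Perm.mul_apply, ih, Function.iterate_succ_apply]; rfl
    rw [h1, sg_braid]
    rfl⟩

theorem act_simple (i : Fin (n + 2)) : act cs (cs.simple i) = sgE i := cs.lift_apply_simple _ i

theorem act_ng (w : W) (a : Fin (n + 2) × Bool) : act cs w (ng a) = ng (act cs w a) := by
  induction w using cs.simple_induction_left with
  | one => rw [map_one]; rfl
  | mul_simple_left w j ih =>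
    rw [map_mul, Equiv.Perm.mul_apply, Equiv.Perm.mul_apply, ih, act_simple, sgE_apply, sgE_apply, sg_ng]

theorem act_fst (w : W) (a b : Fin (n + 2) × Bool) : (act cs w a).1 = (act cs w b).1 ↔ a.1 = b.1 := by
  induction w using cs.simple_induction_left with
  | one => rw [map_one]; rfl
  | mul_simple_left w j ih =>
    rw [map_mul, Equiv.Perm.mul_apply, Equiv.Perm.mul_apply, act_simple, sgE_apply, sgE_apply, sg_fst_eq, ih]

theorem ee_rep (w : W) {x : Fin (n + 2) → ℤ} {a b : Fin (n + 2) × Bool} (e : ee x = wt a + wt b) :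
    ee (rep cs (isCartan n) w x) = wt (act cs w a) + wt (act cs w b) := by
  induction w using cs.simple_induction_left with
  | one => rw [map_one, map_one]; exact e
  | mul_simple_left w j ih =>
    rw [rep_mul_apply, rep_simple, ee_refl_of ih, map_mul, act_simple]
    rfl

theorem not_nonpos {x : Fin (n + 2) → ℤ} {k : Fin (n + 2)} {z : Fin (n + 2) × Bool}
    (e : ee x = wt (k, true) + wt z) (hz : k < z.1) : ¬ x ≤ 0 := by
  intro hx
  have h1 : ∑ j ∈ Finset.Iic k, ee x j = 1 := by
    rw [e]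
    simp only [Pi.add_apply, Finset.sum_add_distrib, wt, Finset.sum_pi_single', Finset.mem_Iic, le_refl, if_true,
      not_le.2 hz, if_false, add_zero]
  have h2 : ∑ j ∈ Finset.Iic k, ee x j = ∑ i, x i * ∑ j ∈ Finset.Iic k, bt i j := by
    simp only [ee, Finset.sum_apply, Pi.smul_apply, smul_eq_mul]
    rw [Finset.sum_comm]
    simp only [Finset.mul_sum]
  have h3 : ∑ i, x i * ∑ j ∈ Finset.Iic k, bt i j ≤ 0 := by
    refine Finset.sum_nonpos fun i _ => ?_
    refine mul_nonpos_of_nonpos_of_nonneg (hx i) ?_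
    rw [sum_bt]
    split_ifs <;> norm_num
  omega

theorem length_step {w : W} {i : Fin (n + 2)} (h : ¬ rep cs (isCartan n) w⁻¹ (sr i) ≤ 0) :
    cs.length (cs.simple i * w) = cs.length w + 1 := by
  have h1 : 0 ≤ rep cs (isCartan n) w⁻¹ (Pi.single i 1) :=
    (nonneg_or_nonpos cs (isCartan n) w⁻¹ i).resolve_right h
  have h2 := (lt_iff' cs (isCartan n) w⁻¹ i).2 h1
  have h3 : w⁻¹ * cs.simple i = (cs.simple i * w)⁻¹ := by rw [mul_inv_rev, cs.inv_simple]
  rw [h3, cs.length_inv, cs.length_inv] at h2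
  rcases cs.length_simple_mul w i with h4 | h4 <;> omega

/-- `w` fixes `ε_i`, `i < k` -/
def FixUp (k : ℕ) (w : W) : Prop := ∀ i : Fin (n + 2), (i : ℕ) < k → act cs w (i, true) = (i, true)

variable {cs}

theorem FixUp.inv {k : ℕ} {w : W} (h : FixUp cs k w) : FixUp cs k w⁻¹ := by
  intro i hi
  rw [map_inv, Equiv.Perm.inv_eq_iff_eq]
  exact (h i hi).symm

theorem FixUp.mul {k : ℕ} {v w : W} (hv : FixUp cs k v) (hw : FixUp cs k w) : FixUp cs k (v * w) := by
  intro i hi
  rw [map_mul, Equiv.Perm.mul_apply, hw i hi, hv i hi]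

theorem FixUp.mono {k l : ℕ} (hkl : k ≤ l) {w : W} (h : FixUp cs l w) : FixUp cs k w :=
  fun i hi => h i (by omega)

theorem FixUp.le {k : ℕ} {w : W} (h : FixUp cs k w) {z : Fin (n + 2) × Bool} (hz : k ≤ z.1) :
    k ≤ ((act cs w z).1 : ℕ) := by
  by_contra hlt
  rw [not_le] at hlt
  have h1 := h (act cs w z).1 hlt
  have h2 : (act cs w ((act cs w z).1, true)).1 = (act cs w z).1 := by rw [h1]
  rw [act_fst] at h2
  simp only at h2
  rw [h2] at hlt
  omega

theorem fixUp_succ {k : ℕ} {w : W} (h : FixUp cs k w) (hk : k < n + 2)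
    (h' : act cs w (⟨k, hk⟩, true) = (⟨k, hk⟩, true)) : FixUp cs (k + 1) w := by
  intro i hi
  rcases Nat.lt_succ_iff_lt_or_eq.1 hi with h1 | h1
  · exact h i h1
  · have : i = ⟨k, hk⟩ := Fin.ext h1
    rw [this]; exact h'

variable (cs)

/-- depth of a signed index -/
def dp (n k : ℕ) (x : Fin (n + 2) × Bool) : ℕ := if x.2 then x.1 - k else 2 * (n + 1) - x.1 - k

/-- the induction step in `exists_rep` -/
theorem rep_step {k : ℕ} (hk : k ≤ n) {d : ℕ} {i : Fin (n + 2)} {y z : Fin (n + 2) × Bool}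
    (hyz : bt i = wt y + wt z) (hne : y.1 ≠ z.1) (hki : k ≤ i) (hkz : k ≤ z.1)
    (ih : ∃ c, FixUp cs k c ∧ act cs c (⟨k, by omega⟩, true) = y ∧
      ∀ v, FixUp cs (k + 1) v → cs.length (c * v) = d + cs.length v) :
    ∃ c, FixUp cs k c ∧ act cs c (⟨k, by omega⟩, true) = sg i y ∧
      ∀ v, FixUp cs (k + 1) v → cs.length (c * v) = (d + 1) + cs.length v := by
  obtain ⟨c, h1, h2, h3⟩ := ih
  refine ⟨cs.simple i * c, ?_, ?_, ?_⟩
  · refine FixUp.mul ?_ h1
    intro j hj
    rw [act_simple, sgE_apply]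
    unfold sg
    split_ifs with ha hb hc hd he <;> simp_all [Fin.ext_iff, pd] <;> omega
  · rw [map_mul, Equiv.Perm.mul_apply, h2, act_simple, sgE_apply]
  · intro v hv
    rw [mul_assoc, length_step, h3 v hv]
    · ring
    · have hw : FixUp cs k (c * v)⁻¹ := (h1.mul (hv.mono (by omega))).inv
      have e1 := ee_rep cs (c * v)⁻¹ (x := sr i) (a := y) (b := z) (by rw [ee_sr, hyz])
      have e2 : act cs (c * v)⁻¹ y = (⟨k, by omega⟩, true) := by
        rw [map_inv, Equiv.Perm.inv_eq_iff_eq, map_mul, Equiv.Perm.mul_apply, hv ⟨k, by omega⟩ (by simp), h2]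
      rw [e2] at e1
      refine not_nonpos e1 ?_
      have h4 := hw.le hkz
      have h5 : (act cs (c * v)⁻¹ y).1 ≠ (act cs (c * v)⁻¹ z).1 := by
        rw [Ne, act_fst]; exact hne
      rw [e2] at h5
      rw [Fin.lt_def]
      have h6 : k ≠ ((act cs (c * v)⁻¹ z).1 : ℕ) := fun h => h5 (Fin.ext h)
      simp only
      omega

theorem exists_rep {k : ℕ} (hk : k ≤ n) (d : ℕ) : ∀ x : Fin (n + 2) × Bool, k ≤ (x.1 : ℕ) → dp n k x = d →
    ∃ c, FixUp cs k c ∧ act cs c (⟨k, by omega⟩, true) = x ∧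
      ∀ v, FixUp cs (k + 1) v → cs.length (c * v) = d + cs.length v := by
  induction d with
  | zero =>
    rintro ⟨i, s⟩ hx hd
    have hi := i.2
    simp only at hx
    unfold dp at hd
    refine ⟨1, fun i _ => by rw [map_one]; rfl, ?_, fun v _ => by rw [one_mul, zero_add]⟩
    cases s
    · simp only [Bool.false_eq_true, if_false] at hd
      omega
    · simp only [if_true] at hd
      rw [map_one, Equiv.Perm.one_apply]
      ext1
      · exact Fin.ext (by simp; omega)
      · rfl
  | succ d ih =>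
    rintro ⟨i, s⟩ hx hd
    have hi := i.2
    simp only at hx
    unfold dp at hd
    cases s
    · simp only [Bool.false_eq_true, if_false] at hd
      by_cases hl : (i : ℕ) = n + 1
      · -- last index: `s_{n+1}` from `ε_n`
        have h1 := rep_step cs hk (d := d) (i := Fin.last (n + 1)) (y := (pd n, true)) (z := (Fin.last (n + 1), true))
          (by unfold bt nx; rw [dif_neg (by simp)]; exact add_comm _ _) (by simp [pd, Fin.ext_iff]) (by simp; omega)
          (by simp; omega) (ih _ (by simpa [pd] using hk) (by simp [dp, pd]; omega))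
        rw [sg, dif_neg (by simp), if_neg (by simp [pd, Fin.ext_iff]), if_pos rfl] at h1
        have h2 : i = Fin.last (n + 1) := Fin.ext (by simpa using hl)
        rw [h2]
        exact h1
      · have hlt : (i : ℕ) + 1 < n + 2 := by omega
        have h1 := rep_step cs hk (d := d) (i := i) (y := (⟨i + 1, hlt⟩, false)) (z := (i, true))
          (by unfold bt nx; rw [dif_pos hlt]; exact add_comm _ _) (by simp [Fin.ext_iff]) hx
          hx (ih _ (by simp; omega) (by simp [dp]; omega))
        rw [sg_down hlt] at h1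
        exact h1
    · simp only [if_true] at hd
      obtain ⟨j, hj⟩ : ∃ j, (i : ℕ) = j + 1 := ⟨i - 1, by omega⟩
      have hj2 : j < n + 2 := by omega
      have hlt : ((⟨j, hj2⟩ : Fin (n + 2)) : ℕ) + 1 < n + 2 := by simp; omega
      have h1 := rep_step cs hk (d := d) (i := ⟨j, hj2⟩) (y := (⟨j, hj2⟩, true)) (z := (⟨j + 1, by omega⟩, false))
        (by unfold bt nx; rw [dif_pos hlt]) (by simp) (by simp; omega)
        (by simp; omega) (ih _ (by simp; omega) (by simp [dp]; omega))
      rw [sg_up hlt] at h1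
      have h2 : i = ⟨j + 1, by omega⟩ := Fin.ext (by simpa using hj)
      rw [h2]
      exact h1

theorem eq_one_of_fixUp {w : W} (h : FixUp cs (n + 1) w) : w = 1 := by
  refine eq_one_of_nonneg cs (isCartan n) w fun i => ?_
  refine (nonneg_or_nonpos cs (isCartan n) w i).resolve_right ?_
  have hi := i.2
  by_cases hlt : (i : ℕ) + 1 < n + 2
  · have e1 := ee_rep cs w (x := sr i) (a := (i, true)) (b := nx i) (by rw [ee_sr, bt])
    rw [h i (by omega)] at e1
    refine not_nonpos e1 ?_
    rw [Fin.lt_def]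
    have h2 : FixUp cs ((i : ℕ) + 1) w := h.mono (by omega)
    have h3 := h2.le (z := nx i) (by unfold nx; rw [dif_pos hlt])
    omega
  · have e1 := ee_rep cs w (x := sr i) (a := (pd n, true)) (b := (i, true))
      (by rw [ee_sr, bt, nx, dif_neg hlt]; exact add_comm _ _)
    rw [h (pd n) (by simp [pd])] at e1
    refine not_nonpos e1 ?_
    rw [Fin.lt_def]
    have h3 := h.le (z := (i, true)) (by simp; omega)
    simp [pd] at h3 ⊢
    omega

theorem act_injective : Function.Injective (act cs) := by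
  rw [injective_iff_map_eq_one]
  intro w hw
  exact eq_one_of_fixUp cs fun i _ => by rw [hw]; rfl

open Classical in
theorem sum_step [Fintype W] (a : ℕ) {k : ℕ} (hk : k ≤ n) :
    ∑ w ∈ Finset.univ.filter (FixUp cs k), a ^ cs.length w =
      (∑ x : Fin (n + 2) × Bool with k ≤ (x.1 : ℕ), a ^ dp n k x) *
        ∑ v ∈ Finset.univ.filter (FixUp cs (k + 1)), a ^ cs.length v := by
  have hex : ∀ x : Fin (n + 2) × Bool, ∃ c, k ≤ (x.1 : ℕ) → (FixUp cs k c ∧ act cs c (⟨k, by omega⟩, true) = x ∧
      ∀ v, FixUp cs (k + 1) v → cs.length (c * v) = dp n k x + cs.length v) := by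
    intro x
    by_cases hx : k ≤ (x.1 : ℕ)
    · obtain ⟨c, hc⟩ := exists_rep cs hk (dp n k x) x hx rfl
      exact ⟨c, fun _ => hc⟩
    · exact ⟨1, fun h => absurd h hx⟩
  choose c hc using hex
  have hkk : k < n + 2 := by omega
  rw [Finset.sum_mul_sum, ← Finset.sum_product']
  symm
  refine Finset.sum_bij' (fun x _ => c x.1 * x.2)
    (fun w _ => (act cs w (⟨k, hkk⟩, true), (c (act cs w (⟨k, hkk⟩, true)))⁻¹ * w)) ?_ ?_ ?_ ?_ ?_
  · rintro ⟨x, v⟩ hx
    simp only [Finset.mem_product, Finset.mem_filter, Finset.mem_univ, true_and] at hx ⊢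
    exact (hc x hx.1).1.mul (hx.2.mono (by omega))
  · intro w hw
    simp only [Finset.mem_product, Finset.mem_filter, Finset.mem_univ, true_and] at hw ⊢
    have h1 := hw.le (z := (⟨k, hkk⟩, true)) (le_refl k)
    refine ⟨h1, ?_⟩
    obtain ⟨h2, h3, -⟩ := hc _ h1
    refine fixUp_succ (h2.inv.mul hw) hkk ?_
    rw [map_mul, Equiv.Perm.mul_apply, map_inv, Equiv.Perm.inv_eq_iff_eq]
    exact h3.symm
  · rintro ⟨x, v⟩ hx
    simp only [Finset.mem_product, Finset.mem_filter, Finset.mem_univ, true_and] at hx ⊢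
    have h1 : act cs (c x * v) (⟨k, hkk⟩, true) = x := by
      rw [map_mul, Equiv.Perm.mul_apply, hx.2 ⟨k, hkk⟩ (by simp)]
      exact (hc x hx.1).2.1
    rw [h1, inv_mul_cancel_left]
  · intro w hw
    simp only [mul_inv_cancel_left]
  · rintro ⟨x, v⟩ hx
    simp only [Finset.mem_product, Finset.mem_filter, Finset.mem_univ, true_and] at hx ⊢
    rw [(hc x hx.1).2.2 v hx.2, pow_add]

theorem sum_dp (a : ℕ) {r : ℕ} (hr : r ≤ n + 1) :
    ∑ x : Fin (n + 2) × Bool with n + 1 - r ≤ (x.1 : ℕ), a ^ dp n (n + 1 - r) x =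
      (∑ j ∈ Finset.range (r + 1), a ^ j) * (1 + a ^ r) := by
  obtain ⟨k, hk⟩ : ∃ k, k + r = n + 1 := ⟨n + 1 - r, by omega⟩
  have hk' : n + 1 - r = k := by omega
  rw [hk', Finset.sum_filter, Fintype.sum_prod_type]
  simp only [Fintype.sum_bool, dp, if_true, Bool.false_eq_true, if_false]
  have h1 : ∀ i : Fin (n + 2), ((if k ≤ (i : ℕ) then a ^ ((i : ℕ) - k) else 0) +
      (if k ≤ (i : ℕ) then a ^ (2 * (n + 1) - (i : ℕ) - k) else 0)) =
      (fun i : ℕ => if k ≤ i then a ^ (i - k) + a ^ (2 * (n + 1) - i - k) else 0) i := by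
    intro i
    simp only
    split_ifs <;> simp
  rw [Finset.sum_congr rfl fun i _ => h1 i]
  rw [Fin.sum_univ_eq_sum_range (fun i : ℕ => if k ≤ i then a ^ (i - k) + a ^ (2 * (n + 1) - i - k) else 0)]
  have h2 : n + 2 = k + (r + 1) := by omega
  rw [h2, Finset.sum_range_add]
  rw [Finset.sum_eq_zero (s := Finset.range k), zero_add]
  · have h3 : ∀ j ∈ Finset.range (r + 1), (if k ≤ k + j then a ^ (k + j - k) + a ^ (2 * (n + 1) - (k + j) - k) else 0) =
        a ^ j + a ^ r * a ^ (r - j) := by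
      intro j hj
      rw [Finset.mem_range] at hj
      rw [if_pos (by omega), ← pow_add]
      congr 2 <;> omega
    rw [Finset.sum_congr rfl h3, Finset.sum_add_distrib, ← Finset.mul_sum]
    have h4 := Finset.sum_range_reflect (fun j => a ^ j) (r + 1)
    simp only [Nat.add_sub_cancel] at h4
    rw [h4]
    ring
  · intro j hj
    rw [Finset.mem_range] at hj
    rw [if_neg (by omega)]

open Classical in
theorem sum_fix [Fintype W] (a : ℕ) {r : ℕ} (hr : r ≤ n + 1) :
    ∑ w ∈ Finset.univ.filter (FixUp cs (n + 1 - r)), a ^ cs.length w =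
      ∏ m ∈ Finset.range r, ((∑ j ∈ Finset.range (m + 2), a ^ j) * (1 + a ^ (m + 1))) := by
  induction r with
  | zero =>
    have h1 : Finset.univ.filter (FixUp cs (n + 1 - 0)) = {1} := by
      ext w
      simp only [Finset.mem_filter, Finset.mem_univ, true_and, Finset.mem_singleton]
      constructor
      · intro h; exact eq_one_of_fixUp cs h
      · rintro rfl i _
        rw [map_one]; rfl
    rw [h1, Finset.sum_singleton, cs.length_one, pow_zero, Finset.prod_range_zero]
  | succ r ih =>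
    rw [sum_step cs a (by omega : n + 1 - (r + 1) ≤ n), sum_dp a hr, Finset.prod_range_succ,
      show n + 1 - (r + 1) + 1 = n + 1 - r from by omega, ih (by omega), mul_comm]

/-- **The Poincaré polynomial of `W(D_{n+2})`** -/
theorem sum_D [Fintype W] (a : ℕ) : ∑ w : W, a ^ cs.length w = ND a (n + 2) := by
  classical
  have h1 := sum_fix cs a (le_refl (n + 1))
  have h2 : Finset.univ.filter (FixUp cs (n + 1 - (n + 1))) = Finset.univ := by
    ext w
    simp only [Finset.mem_filter, Finset.mem_univ, true_and, iff_true]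
    intro i hi
    omega
  rw [h2] at h1
  rw [h1]
  rfl

end Cfsg.Agent.H475.CoxD
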