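import Mathlib
import Cfsg.Agent.H383.Cube.Num
import Cfsg.Agent.Nodes.TypeC

/-!
# Signed permutations of square one (helper475, for S5721)

`card_le_sB` : a family of distinct signed permutations of `Fin m × Bool` of square one has at most `sB m` members.
-/

set_option autoImplicit false

namespace Cfsg.Agent.H475.SgInv

open Cfsg.Agent.H383.Cube
open Cfsg.Agent.Nodes.TypeC (ng ng_ng ng_fst ng_snd)

universe u

/-- signed involutions of `α` -/
def SInv (α : Type u) : Type u := {g : α → α × Bool // ∀ x, g (g x).1 = (x, (g x).2)}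

noncomputable instance {α : Type u} [Finite α] : Finite (SInv α) := by
  classical
  have := Fintype.ofFinite α
  unfold SInv
  infer_instance

/-- restriction to a stable subset -/
def res {α : Type u} (g : SInv α) (P : α → Prop) (hP : ∀ x, P x → P (g.1 x).1) : SInv {x // P x} :=
  ⟨fun x => (⟨(g.1 x.1).1, hP x.1 x.2⟩, (g.1 x.1).2), fun x => by
    have h := g.2 x.1
    simp only [Prod.mk.injEq]
    exact ⟨Subtype.ext (by simp only; rw [h]), by rw [h]⟩⟩

theorem eq_of_res {α : Type u} {g g' : SInv α} {P : α → Prop} {hP : ∀ x, P x → P (g.1 x).1}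
    {hP' : ∀ x, P x → P (g'.1 x).1} (h : res g P hP = res g' P hP') {x : α} (hx : P x) : g.1 x = g'.1 x := by
  have h1 := congrFun (congrArg Subtype.val h) ⟨x, hx⟩
  simp only [res, Prod.mk.injEq, Subtype.mk.injEq] at h1
  exact Prod.ext h1.1 h1.2

theorem fix_fiber {α : Type u} [Finite α] (a : α) (N : ℕ) (hN : Nat.card (SInv {x // x ≠ a}) ≤ N) :
    Nat.card {g : SInv α // (g.1 a).1 = a} ≤ 2 * N := by
  have hst : ∀ g : {g : SInv α // (g.1 a).1 = a}, ∀ x, x ≠ a → (g.1.1 x).1 ≠ a := by
    intro g x hx h
    have h1 := g.1.2 x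
    rw [h] at h1
    have h2 := g.2
    rw [h1] at h2
    exact hx h2
  let f : {g : SInv α // (g.1 a).1 = a} → Bool × SInv {x // x ≠ a} := fun g => ((g.1.1 a).2, res g.1 _ (hst g))
  have hf : Function.Injective f := by
    intro g g' h
    simp only [f, Prod.mk.injEq] at h
    apply Subtype.ext
    apply Subtype.ext
    funext x
    by_cases hx : x = a
    · subst hx
      exact Prod.ext (g.2.trans g'.2.symm) h.1
    · exact eq_of_res h.2 hx
  calc Nat.card {g : SInv α // (g.1 a).1 = a} ≤ Nat.card (Bool × SInv {x // x ≠ a}) := Nat.card_le_card_of_injective f hf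
    _ = 2 * Nat.card (SInv {x // x ≠ a}) := by rw [Nat.card_prod, Nat.card_eq_fintype_card, Fintype.card_bool]
    _ ≤ 2 * N := by gcongr

theorem move_fiber {α : Type u} [Finite α] {a b : α} (hab : b ≠ a) (N : ℕ)
    (hN : Nat.card (SInv {x // x ≠ a ∧ x ≠ b}) ≤ N) : Nat.card {g : SInv α // (g.1 a).1 = b} ≤ 2 * N := by
  have hb : ∀ g : {g : SInv α // (g.1 a).1 = b}, g.1.1 b = (a, (g.1.1 a).2) := by
    intro g
    have h1 := g.1.2 a
    rwa [g.2] at h1
  have hst : ∀ g : {g : SInv α // (g.1 a).1 = b}, ∀ x, (x ≠ a ∧ x ≠ b) → ((g.1.1 x).1 ≠ a ∧ (g.1.1 x).1 ≠ b) := by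
    rintro g x ⟨hx, hx'⟩
    have h1 := g.1.2 x
    constructor
    · intro h
      rw [h] at h1
      have h2 := g.2
      rw [h1] at h2
      exact hx' h2
    · intro h
      rw [h, hb g] at h1
      exact hx (congrArg Prod.fst h1).symm
  let f : {g : SInv α // (g.1 a).1 = b} → Bool × SInv {x // x ≠ a ∧ x ≠ b} := fun g => ((g.1.1 a).2, res g.1 _ (hst g))
  have hf : Function.Injective f := by
    intro g g' h
    simp only [f, Prod.mk.injEq] at h
    apply Subtype.ext
    apply Subtype.ext
    funext x
    by_cases hx : x = a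
    · subst hx
      exact Prod.ext (g.2.trans g'.2.symm) h.1
    · by_cases hx' : x = b
      · subst hx'
        rw [hb g, hb g', h.1]
      · exact eq_of_res h.2 ⟨hx, hx'⟩
  calc Nat.card {g : SInv α // (g.1 a).1 = b} ≤ Nat.card (Bool × SInv {x // x ≠ a ∧ x ≠ b}) :=
      Nat.card_le_card_of_injective f hf
    _ = 2 * Nat.card (SInv {x // x ≠ a ∧ x ≠ b}) := by rw [Nat.card_prod, Nat.card_eq_fintype_card, Fintype.card_bool]
    _ ≤ 2 * N := by gcongr

theorem card_sinv_le (m : ℕ) : ∀ (α : Type u) [Fintype α], Fintype.card α = m → Nat.card (SInv α) ≤ sB m := by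
  induction m using Nat.strong_induction_on with
  | _ m ih =>
    intro α _ hα
    classical
    have : Fintype (SInv α) := Fintype.ofFinite _
    rcases m with _ | _ | m
    · have : IsEmpty α := Fintype.card_eq_zero_iff.1 hα
      have : Subsingleton (SInv α) := ⟨fun g g' => Subtype.ext (funext fun x => isEmptyElim x)⟩
      exact (Finite.card_le_one_iff_subsingleton).2 this
    · obtain ⟨a, ha⟩ := Fintype.card_eq_one_iff.1 hα
      have : Nat.card (SInv α) ≤ Nat.card Bool := by
        refine Nat.card_le_card_of_injective (fun g => (g.1 a).2) fun g g' h => ?_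
        apply Subtype.ext
        funext x
        rw [ha x]
        exact Prod.ext ((ha _).trans (ha _).symm) h
      rwa [Nat.card_eq_fintype_card (α := Bool), Fintype.card_bool] at this
    · obtain ⟨a⟩ : Nonempty α := Fintype.card_pos_iff.1 (by omega)
      have h1 : Nat.card {g : SInv α // (g.1 a).1 = a} ≤ 2 * sB (m + 1) := by
        refine fix_fiber a _ (ih (m + 1) (by omega) _ ?_)
        rw [Fintype.card_subtype_compl, Fintype.card_subtype_eq, hα]
        rfl
      have h2 : ∀ b, b ≠ a → Nat.card {g : SInv α // (g.1 a).1 = b} ≤ 2 * sB m := by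
        intro b hb
        refine move_fiber hb _ (ih m (by omega) _ ?_)
        have h3 : Fintype.card {x // x ≠ a ∧ x ≠ b} = (Finset.univ \ {a, b}).card := by
          rw [Fintype.card_subtype]
          congr 1
          ext x
          simp
        rw [h3, Finset.card_sdiff_of_subset (Finset.subset_univ _), Finset.card_pair hb.symm, Finset.card_univ, hα]
        rfl
      have h3 : Nat.card (SInv α) = ∑ b : α, Nat.card {g : SInv α // (g.1 a).1 = b} := by
        rw [Nat.card_eq_fintype_card, ← Finset.card_univ,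
          Finset.card_eq_sum_card_fiberwise (f := fun g : SInv α => (g.1 a).1) (t := Finset.univ) (by simp)]
        refine Finset.sum_congr rfl fun b _ => ?_
        rw [Nat.card_eq_fintype_card, Fintype.card_subtype]
      rw [h3, ← Finset.add_sum_erase _ _ (Finset.mem_univ a)]
      have h4 : ∑ b ∈ Finset.univ.erase a, Nat.card {g : SInv α // (g.1 a).1 = b} ≤
          ∑ _b ∈ Finset.univ.erase a, 2 * sB m :=
        Finset.sum_le_sum fun b hb => h2 b (Finset.ne_of_mem_erase hb)
      rw [Finset.sum_const, Finset.card_erase_of_mem (Finset.mem_univ _), Finset.card_univ, hα, smul_eq_mul] at h4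
      have h5 : sB (m + 2) = 2 * sB (m + 1) + 2 * (m + 1) * sB m := rfl
      have h6 : (m + 1 + 1 - 1) * (2 * sB m) = 2 * (m + 1) * sB m := by
        rw [Nat.add_sub_cancel]; ring
      show _ ≤ sB (m + 2)
      omega

theorem card_le_sB {m : ℕ} {ι : Type*} (F : ι → Equiv.Perm (Fin m × Bool)) (hF : Function.Injective F)
    (h1 : ∀ i x, F i (ng x) = ng (F i x)) (h2 : ∀ i, F i * F i = 1) : Nat.card ι ≤ sB m := by
  refine le_trans (Nat.card_le_card_of_injective (β := SInv (Fin m)) (fun i => ⟨fun x => F i (x, true), fun x => ?_⟩) ?_)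
    (card_sinv_le m (Fin m) (Fintype.card_fin m))
  · have h3 : F i (F i (x, true)) = (x, true) := by
      rw [← Equiv.Perm.mul_apply, h2]; rfl
    show F i ((F i (x, true)).1, true) = (x, (F i (x, true)).2)
    rcases hy : F i (x, true) with ⟨y, s⟩
    rw [hy] at h3
    cases s
    · have h4 := h1 i (y, false)
      rw [h3] at h4
      exact h4
    · exact h3
  · intro i j hij
    apply hF
    replace hij := congrArg Subtype.val hij
    ext1 ⟨x, s⟩
    have h3 := congrFun hij x
    simp only at h3
    cases s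
    · have h4 := h1 i (x, true)
      have h5 := h1 j (x, true)
      rw [h3] at h4
      exact h4.trans h5.symm
    · exact h3

end Cfsg.Agent.H475.SgInv
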