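import Mathlib
import Cfsg.Agent.H475.CoxD
import Cfsg.Agent.H475.SgInv

/-!
# The Weyl group of type `D_{n+2}`: twisted involutions (helper475, for S5721)
-/

set_option autoImplicit false

namespace Cfsg.Agent.H475.CoxD

open CoxeterSystem Cfsg.Agent.ChevalleyStructure.CoxeterGeom Cfsg.Agent.Tits.Roots
  Cfsg.Agent.Nodes.TypeD Cfsg.Agent.H383.Cube Cfsg.Agent.KFacts.RgdDiag Cfsg.Agent.H475.SgInv
open Cfsg.Agent.Nodes.TypeC (wt ng wt_ng ng_ng ng_fst ng_snd wt_apply)

/-! ### symmetries of the diagram -/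

section Gen

variable {I W : Type*} [Fintype I] [DecidableEq I] [Group W] {M' : CoxeterMatrix I} (cs : CoxeterSystem M' W)

/-- twisted involutions -/
def TwW (σ : Equiv.Perm I) (hσ : ∀ i j, M' (σ i) (σ j) = M' i j) : Type _ := {w : W // hat cs σ hσ w = w⁻¹}

theorem hat_one (hσ : ∀ i j, M' ((1 : Equiv.Perm I) i) ((1 : Equiv.Perm I) j) = M' i j) (w : W) :
    hat cs 1 hσ w = w := by
  have h : hat cs 1 hσ = MonoidHom.id W := cs.ext_simple fun i => by
    rw [hat_simple]; rfl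
  rw [h]; rfl

theorem hat_mul (σ τ : Equiv.Perm I) (hσ : ∀ i j, M' (σ i) (σ j) = M' i j) (hτ : ∀ i j, M' (τ i) (τ j) = M' i j)
    (hστ : ∀ i j, M' ((σ * τ) i) ((σ * τ) j) = M' i j) (w : W) :
    hat cs (σ * τ) hστ w = hat cs σ hσ (hat cs τ hτ w) := by
  have h : hat cs (σ * τ) hστ = (hat cs σ hσ).comp (hat cs τ hτ) := cs.ext_simple fun i => by
    rw [hat_simple, MonoidHom.comp_apply, hat_simple, hat_simple]; rfl
  rw [h]; rfl

theorem hat_injective (σ : Equiv.Perm I) (hσ : ∀ i j, M' (σ i) (σ j) = M' i j) : Function.Injective (hat cs σ hσ) := by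
  have hσ' : ∀ i j, M' (σ⁻¹ i) (σ⁻¹ j) = M' i j := by
    intro i j
    rw [← hσ (σ⁻¹ i) (σ⁻¹ j), show σ (σ⁻¹ i) = i from σ.apply_symm_apply i, show σ (σ⁻¹ j) = j from σ.apply_symm_apply j]
  have h1 : ∀ i j, M' ((σ⁻¹ * σ) i) ((σ⁻¹ * σ) j) = M' i j := by
    intro i j; rw [inv_mul_cancel]; rfl
  intro w v hwv
  have h2 := hat_mul cs σ⁻¹ σ hσ' hσ h1 w
  have h3 := hat_mul cs σ⁻¹ σ hσ' hσ h1 v
  rw [hwv, ← h3] at h2
  have h4 : ∀ u : W, hat cs (σ⁻¹ * σ) h1 u = u := by
    intro u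
    have h : hat cs (σ⁻¹ * σ) h1 = MonoidHom.id W := cs.ext_simple fun i => by
      rw [hat_simple, inv_mul_cancel]; rfl
    rw [h]; rfl
  rwa [h4, h4] at h2

/-- conjugate symmetries have the same number of twisted involutions -/
theorem card_conj_le [Finite W] (σ ρ : Equiv.Perm I) (hσ : ∀ i j, M' (σ i) (σ j) = M' i j)
    (hρ : ∀ i j, M' (ρ i) (ρ j) = M' i j) (hc : ∀ i j, M' ((ρ * σ * ρ⁻¹) i) ((ρ * σ * ρ⁻¹) j) = M' i j) :
    Nat.card {w : W // hat cs σ hσ w = w⁻¹} ≤ Nat.card {w : W // hat cs (ρ * σ * ρ⁻¹) hc w = w⁻¹} := by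
  have h1 : ∀ i j, M' ((ρ * σ) i) ((ρ * σ) j) = M' i j := by
    intro i j
    rw [Equiv.Perm.mul_apply, Equiv.Perm.mul_apply, hρ, hσ]
  have h2 : ∀ i j, M' ((ρ * σ * ρ⁻¹ * ρ) i) ((ρ * σ * ρ⁻¹ * ρ) j) = M' i j := by
    intro i j
    rw [inv_mul_cancel_right]; exact h1 i j
  refine Nat.card_le_card_of_injective (fun w => ⟨hat cs ρ hρ w.1, ?_⟩) ?_
  · rw [← hat_mul cs _ _ hc hρ h2, ← map_inv, ← w.2, ← hat_mul cs _ _ hρ hσ h1]
    congr 2
    exact inv_mul_cancel_right _ _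
  · intro w v hwv
    exact Subtype.ext (hat_injective cs ρ hρ (congrArg Subtype.val hwv))

/-- symmetries of order three -/
theorem card_cube_le [Finite W] (σ : Equiv.Perm I) (hσ : ∀ i j, M' (σ i) (σ j) = M' i j) (h3 : σ * (σ * σ) = 1)
    (h1 : ∀ i j, M' ((1 : Equiv.Perm I) i) ((1 : Equiv.Perm I) j) = M' i j) :
    Nat.card {w : W // hat cs σ hσ w = w⁻¹} ≤ Nat.card {w : W // hat cs 1 h1 w = w⁻¹} := by
  have hσσ : ∀ i j, M' ((σ * σ) i) ((σ * σ) j) = M' i j := by
    intro i j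
    rw [Equiv.Perm.mul_apply, Equiv.Perm.mul_apply, hσ, hσ]
  have hσσσ : ∀ i j, M' ((σ * (σ * σ)) i) ((σ * (σ * σ)) j) = M' i j := by
    intro i j
    rw [h3]; rfl
  refine Nat.card_le_card_of_injective (fun w => ⟨w.1, ?_⟩) fun w v h => Subtype.ext (Subtype.mk.inj h)
  rw [hat_one]
  have h4 : hat cs (σ * σ) hσσ w.1 = w.1 := by
    rw [hat_mul cs σ σ hσ hσ, w.2, map_inv, w.2, inv_inv]
  have h5 : hat cs (σ * (σ * σ)) hσσσ w.1 = w.1 := by
    have h : hat cs (σ * (σ * σ)) hσσσ = MonoidHom.id W := cs.ext_simple fun i => by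
      rw [hat_simple, h3]; rfl
    rw [h]; rfl
  rw [hat_mul cs σ (σ * σ) hσ hσσ, h4] at h5
  exact h5.symm.trans w.2

end Gen

section

variable {n : ℕ} {W : Type*} [Group W] (cs : CoxeterSystem (M n) W)

theorem card_tw_one (hσ : ∀ i j, M n ((1 : Equiv.Perm (Fin (n + 2))) i) ((1 : Equiv.Perm (Fin (n + 2))) j) = M n i j) :
    Nat.card {w : W // hat cs 1 hσ w = w⁻¹} ≤ sB (n + 2) := by
  refine card_le_sB (fun w => act cs w.1) (fun w v h => Subtype.ext (act_injective cs h)) (fun w x => act_ng cs w.1 x) ?_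
  intro w
  have h := w.2
  rw [hat_one] at h
  rw [← map_mul]
  conv_lhs => rw [show w.1 * w.1 = w.1 * w.1⁻¹ by rw [← h]]
  rw [mul_inv_cancel, map_one]

/-- sign change of the last index -/
def tE (n : ℕ) : Equiv.Perm (Fin (n + 2) × Bool) :=
  ⟨fun x => if x.1 = Fin.last (n + 1) then ng x else x, fun x => if x.1 = Fin.last (n + 1) then ng x else x,
    fun x => by dsimp only; split_ifs <;> simp_all, fun x => by dsimp only; split_ifs <;> simp_all⟩

theorem tE_apply (x : Fin (n + 2) × Bool) : tE n x = if x.1 = Fin.last (n + 1) then ng x else x := rfl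

theorem tE_mul_self : tE n * tE n = 1 := by
  ext1 x
  rw [Equiv.Perm.mul_apply, tE_apply, tE_apply]
  split_ifs <;> simp_all

theorem tE_ng (x : Fin (n + 2) × Bool) : tE n (ng x) = ng (tE n x) := by
  rw [tE_apply, tE_apply]
  split_ifs <;> simp_all

theorem tE_conj (i : Fin (n + 2)) :
    tE n * sgE i * tE n = sgE (Equiv.swap (pd n) (Fin.last (n + 1)) i) := by
  have hpl : pd n ≠ Fin.last (n + 1) := by simp [pd, Fin.ext_iff]
  have hp1 : ((pd n : Fin (n + 2)) : ℕ) + 1 < n + 2 := by simp [pd]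
  have hl1 : ¬ ((Fin.last (n + 1) : Fin (n + 2)) : ℕ) + 1 < n + 2 := by simp
  have hup : (⟨(pd n : ℕ) + 1, hp1⟩ : Fin (n + 2)) = Fin.last (n + 1) := Fin.ext (by simp [pd])
  have t1 : ∀ s, tE n (Fin.last (n + 1), s) = (Fin.last (n + 1), !s) := fun s => by rw [tE_apply, if_pos rfl]; rfl
  have t2 : ∀ x : Fin (n + 2), x ≠ Fin.last (n + 1) → ∀ s, tE n (x, s) = (x, s) := fun x hx s => by
    rw [tE_apply, if_neg hx]
  have g1 : ∀ s, sg (pd n) (pd n, s) = (Fin.last (n + 1), s) := fun s => by rw [sg_up hp1, hup]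
  have g2 : ∀ s, sg (pd n) (Fin.last (n + 1), s) = (pd n, s) := fun s => by rw [← hup, sg_down hp1]
  have g3 : ∀ s, sg (Fin.last (n + 1)) (Fin.last (n + 1), s) = (pd n, !s) := fun s => sg_last hl1 s
  have g4 : ∀ s, sg (Fin.last (n + 1)) (pd n, s) = (Fin.last (n + 1), !s) := fun s => by
    have := g3 (!s)
    rw [Bool.not_not] at this
    rw [← this, sg_sg]
  have hlow : ∀ x : Fin (n + 2), x ≠ pd n → x ≠ Fin.last (n + 1) → (x : ℕ) < n := by
    intro x h1 h2
    have h3 := x.2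
    have h4 : (x : ℕ) ≠ n := fun h => h1 (Fin.ext h)
    have h5 : (x : ℕ) ≠ n + 1 := fun h => h2 (Fin.ext (by simpa using h))
    omega
  have g5 : ∀ x : Fin (n + 2), x ≠ pd n → x ≠ Fin.last (n + 1) → ∀ s, sg (pd n) (x, s) = (x, s) := by
    intro x h1 h2 s
    have := hlow x h1 h2
    exact sg_of_ne hp1 h1 (by simp [pd]; omega)
  have g6 : ∀ x : Fin (n + 2), x ≠ pd n → x ≠ Fin.last (n + 1) → ∀ s, sg (Fin.last (n + 1)) (x, s) = (x, s) := by
    intro x h1 h2 s
    exact sg_last_of_ne hl1 (hlow x h1 h2)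
  ext1 ⟨x, s⟩
  rw [Equiv.Perm.mul_apply, Equiv.Perm.mul_apply, sgE_apply, sgE_apply]
  by_cases h1 : i = pd n
  · subst h1
    rw [Equiv.swap_apply_left]
    by_cases hx1 : x = pd n
    · subst hx1
      rw [t2 _ hpl, g1, t1, g4]
    · by_cases hx2 : x = Fin.last (n + 1)
      · subst hx2
        rw [t1, g2, t2 _ hpl, g3]
      · rw [t2 _ hx2, g5 x hx1 hx2, t2 _ hx2, g6 x hx1 hx2]
  · by_cases h2 : i = Fin.last (n + 1)
    · subst h2
      rw [Equiv.swap_apply_right]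
      by_cases hx1 : x = pd n
      · subst hx1
        rw [t2 _ hpl, g4, t1, g1, Bool.not_not]
      · by_cases hx2 : x = Fin.last (n + 1)
        · subst hx2
          rw [t1, g3, t2 _ hpl, g2, Bool.not_not]
        · rw [t2 _ hx2, g5 x hx1 hx2, g6 x hx1 hx2, t2 _ hx2]
    · rw [Equiv.swap_apply_of_ne_of_ne h1 h2]
      have hi := hlow i h1 h2
      have hi1 : (i : ℕ) + 1 < n + 2 := by omega
      by_cases hx2 : x = Fin.last (n + 1)
      · subst hx2
        have g7 : ∀ s, sg i (Fin.last (n + 1), s) = (Fin.last (n + 1), s) := fun s =>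
          sg_of_ne hi1 (fun h => h2 h.symm) (by simp; omega)
        rw [t1, g7, t1, g7, Bool.not_not]
      · have g8 : (sg i (x, s)).1 ≠ Fin.last (n + 1) := by
          unfold sg
          rw [dif_pos hi1]
          split_ifs with hc hd
          · intro h
            have := congrArg Fin.val h
            simp at this
            omega
          · exact h2
          · exact hx2
        rw [t2 _ hx2, tE_apply, if_neg g8]

theorem act_hat_swap (hσ : ∀ i j, M n (Equiv.swap (pd n) (Fin.last (n + 1)) i)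
      (Equiv.swap (pd n) (Fin.last (n + 1)) j) = M n i j) (w : W) :
    act cs (hat cs (Equiv.swap (pd n) (Fin.last (n + 1))) hσ w) = tE n * act cs w * tE n := by
  induction w using cs.simple_induction_left with
  | one => rw [map_one, map_one, mul_one, tE_mul_self]
  | mul_simple_left w j ih =>
    rw [map_mul, map_mul, ih, hat_simple, act_simple, ← tE_conj, map_mul, act_simple]
    calc tE n * sgE j * tE n * (tE n * act cs w * tE n) = tE n * sgE j * (tE n * tE n) * act cs w * tE n := by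
          simp only [mul_assoc]
      _ = tE n * (sgE j * act cs w) * tE n := by rw [tE_mul_self]; simp only [mul_assoc, one_mul]

theorem card_tw_swap (hσ : ∀ i j, M n (Equiv.swap (pd n) (Fin.last (n + 1)) i)
      (Equiv.swap (pd n) (Fin.last (n + 1)) j) = M n i j) :
    Nat.card {w : W // hat cs (Equiv.swap (pd n) (Fin.last (n + 1))) hσ w = w⁻¹} ≤ sB (n + 2) := by
  refine card_le_sB (fun w => act cs w.1 * tE n) (fun w v h => Subtype.ext (act_injective cs (mul_right_cancel h)))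
    (fun w x => by rw [Equiv.Perm.mul_apply, Equiv.Perm.mul_apply, tE_ng, act_ng]) ?_
  intro w
  have h := act_hat_swap cs hσ w.1
  rw [w.2] at h
  calc act cs w.1 * tE n * (act cs w.1 * tE n) = act cs w.1 * (tE n * act cs w.1 * tE n) := by simp only [mul_assoc]
    _ = act cs w.1 * act cs w.1⁻¹ := by rw [h]
    _ = 1 := by rw [← map_mul, mul_inv_cancel, map_one]

/-! ### classification of the symmetries -/

theorem adj_iff {σ : Equiv.Perm (Fin (n + 2))} (hσ : ∀ i j, M n (σ i) (σ j) = M n i j) {i j : Fin (n + 2)}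
    (h : Nodes.TypeD.Adj i j ∨ Nodes.TypeD.Adj j i) : Nodes.TypeD.Adj (σ i) (σ j) ∨ Nodes.TypeD.Adj (σ j) (σ i) := by
  have h1 := hσ i j
  have hij : i ≠ j := by
    rintro rfl
    rcases h with h | h <;> rcases h with ⟨_, h⟩ | ⟨_, h⟩ <;> omega
  rw [M_apply, M_apply, if_neg hij, if_pos h, if_neg (fun h' => hij (σ.injective h'))] at h1
  by_contra h2
  rw [if_neg h2] at h1
  omega

theorem adj_ne {σ : Equiv.Perm (Fin (n + 2))} {i j : Fin (n + 2)} (h : (i : ℕ) ≠ j) : ((σ i : Fin (n + 2)) : ℕ) ≠ σ j :=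
  fun h' => h (congrArg Fin.val (σ.injective (Fin.ext h')))

/-- `σ` fixes the nodes `j ≤ n - 1` -/
theorem fix_low {σ : Equiv.Perm (Fin (n + 2))} (hσ : ∀ i j, M n (σ i) (σ j) = M n i j) (hn : 3 ≤ n) (d : ℕ) :
    ∀ j : Fin (n + 2), (j : ℕ) + d + 1 = n → ((σ j : Fin (n + 2)) : ℕ) = j := by
  have key0 : ∀ (m₁ : Fin (n + 2)), (m₁ : ℕ) + 1 = n → ((σ m₁ : Fin (n + 2)) : ℕ) = m₁ := by
    intro m₁ hm₁
    have e1 := adj_iff hσ (i := m₁) (j := ⟨n, by omega⟩) (by unfold Nodes.TypeD.Adj; simp; omega)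
    have e2 := adj_iff hσ (i := m₁) (j := ⟨n + 1, by omega⟩) (by unfold Nodes.TypeD.Adj; simp; omega)
    have e3 := adj_iff hσ (i := m₁) (j := ⟨n - 2, by omega⟩) (by unfold Nodes.TypeD.Adj; simp; omega)
    have f1 := adj_ne (σ := σ) (i := ⟨n, by omega⟩) (j := ⟨n + 1, by omega⟩) (by simp)
    have f2 := adj_ne (σ := σ) (i := ⟨n, by omega⟩) (j := ⟨n - 2, by omega⟩) (by simp; omega)
    have f3 := adj_ne (σ := σ) (i := ⟨n + 1, by omega⟩) (j := ⟨n - 2, by omega⟩) (by simp; omega)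
    unfold Nodes.TypeD.Adj at e1 e2 e3
    omega
  induction d using Nat.strong_induction_on with
  | _ d ih =>
    intro j hj
    rcases d with _ | _ | d
    · exact key0 j (by omega)
    · have h0 := key0 ⟨n - 1, by omega⟩ (by simp; omega)
      have e1 := adj_iff hσ (i := j) (j := ⟨n - 1, by omega⟩) (by unfold Nodes.TypeD.Adj; simp; omega)
      have e2 := adj_iff hσ (i := j) (j := ⟨n - 3, by omega⟩) (by unfold Nodes.TypeD.Adj; simp; omega)
      have f1 := adj_ne (σ := σ) (i := ⟨n - 1, by omega⟩) (j := ⟨n - 3, by omega⟩) (by simp; omega)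
      simp only at h0
      unfold Nodes.TypeD.Adj at e1 e2
      omega
    · have h1 := ih (d + 1) (by omega) ⟨j + 1, by omega⟩ (by simp; omega)
      have h2 := ih d (by omega) ⟨j + 2, by omega⟩ (by simp; omega)
      have e1 := adj_iff hσ (i := j) (j := ⟨j + 1, by omega⟩) (by unfold Nodes.TypeD.Adj; simp; omega)
      have f1 := adj_ne (σ := σ) (i := j) (j := ⟨j + 2, by omega⟩) (by simp)
      simp only at h1 h2
      unfold Nodes.TypeD.Adj at e1
      omega

theorem eq_or_swap {σ : Equiv.Perm (Fin (n + 2))} (h : ∀ j : Fin (n + 2), (j : ℕ) < n → ((σ j : Fin (n + 2)) : ℕ) = j) :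
    σ = 1 ∨ σ = Equiv.swap (pd n) (Fin.last (n + 1)) := by
  have hr : ∀ j : Fin (n + 2), n ≤ (j : ℕ) → n ≤ ((σ j : Fin (n + 2)) : ℕ) := by
    intro j hj
    by_contra hlt
    have h1 := h (σ j) (by omega)
    have h2 : σ (σ j) = σ j := Fin.ext h1
    have h3 := σ.injective h2
    rw [h3] at hlt
    omega
  have hp : ((pd n : Fin (n + 2)) : ℕ) = n := rfl
  have hl : ((Fin.last (n + 1) : Fin (n + 2)) : ℕ) = n + 1 := by simp
  have h1 := hr (pd n) (by omega)
  have h2 := hr (Fin.last (n + 1)) (by omega)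
  have h3 := (σ (pd n)).2
  have h4 := (σ (Fin.last (n + 1))).2
  have h5 := adj_ne (σ := σ) (i := pd n) (j := Fin.last (n + 1)) (by omega)
  by_cases h6 : ((σ (pd n) : Fin (n + 2)) : ℕ) = n
  · left
    ext1 j
    apply Fin.ext
    by_cases hj : (j : ℕ) < n
    · exact h j hj
    · by_cases hj' : (j : ℕ) = n
      · have : j = pd n := Fin.ext hj'
        rw [this]
        exact h6
      · have : j = Fin.last (n + 1) := Fin.ext (by have := j.2; omega)
        rw [this]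
        show _ = ((Fin.last (n + 1) : Fin (n + 2)) : ℕ)
        omega
  · right
    ext1 j
    apply Fin.ext
    by_cases hj : (j : ℕ) < n
    · rw [Equiv.swap_apply_of_ne_of_ne (fun h' => by rw [h'] at hj; omega) (fun h' => by rw [h'] at hj; omega)]
      exact h j hj
    · by_cases hj' : (j : ℕ) = n
      · have : j = pd n := Fin.ext hj'
        rw [this, Equiv.swap_apply_left]
        omega
      · have : j = Fin.last (n + 1) := Fin.ext (by have := j.2; omega)
        rw [this, Equiv.swap_apply_right]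
        omega

theorem card_tw_of_low [Finite W] {σ : Equiv.Perm (Fin (n + 2))} (hσ : ∀ i j, M n (σ i) (σ j) = M n i j)
    (h : ∀ j : Fin (n + 2), (j : ℕ) < n → ((σ j : Fin (n + 2)) : ℕ) = j) :
    Nat.card {w : W // hat cs σ hσ w = w⁻¹} ≤ sB (n + 2) := by
  rcases eq_or_swap h with rfl | rfl
  · exact card_tw_one cs hσ
  · exact card_tw_swap cs hσ

theorem perm_four (σ : Equiv.Perm (Fin 4)) (h1 : σ 1 = 1) :
    σ = 1 ∨ σ = Equiv.swap 2 3 ∨ σ * (σ * σ) = 1 ∨ (∃ ρ : Equiv.Perm (Fin 4), ρ 1 = 1 ∧ ρ * σ * ρ⁻¹ = Equiv.swap 2 3) := by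
  revert σ
  decide

end

/-- **Twisted involutions of `W(D_{n+2})`** -/
theorem card_tw_D {n : ℕ} {W : Type*} [Group W] (cs : CoxeterSystem (M n) W) (σ : Equiv.Perm (Fin (n + 2)))
    (hσ : ∀ i j, M n (σ i) (σ j) = M n i j) : Nat.card {w : W // hat cs σ hσ w = w⁻¹} ≤ sB (n + 2) := by
  have := finite_W cs
  by_cases h0 : n = 0
  · subst h0
    exact card_tw_of_low cs hσ (fun j hj => absurd hj (by omega))
  by_cases h1 : n = 1
  · subst h1
    refine card_tw_of_low cs hσ (fun j hj => ?_)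
    have hj0 : j = ⟨0, by omega⟩ := Fin.ext (by show (j : ℕ) = 0; omega)
    have e1 := adj_iff hσ (i := ⟨0, by omega⟩) (j := ⟨1, by omega⟩) (by unfold Nodes.TypeD.Adj; simp)
    have e2 := adj_iff hσ (i := ⟨0, by omega⟩) (j := ⟨2, by omega⟩) (by unfold Nodes.TypeD.Adj; simp)
    have f1 := adj_ne (σ := σ) (i := ⟨1, by omega⟩) (j := ⟨2, by omega⟩) (by simp)
    rw [hj0]
    unfold Nodes.TypeD.Adj at e1 e2
    simp only
    omega
  by_cases h2 : n = 2
  · subst h2
    -- the central node is fixed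
    have hc : σ 1 = 1 := by
      have e1 := adj_iff hσ (i := ⟨1, by omega⟩) (j := ⟨0, by omega⟩) (by unfold Nodes.TypeD.Adj; simp)
      have e2 := adj_iff hσ (i := ⟨1, by omega⟩) (j := ⟨2, by omega⟩) (by unfold Nodes.TypeD.Adj; simp)
      have e3 := adj_iff hσ (i := ⟨1, by omega⟩) (j := ⟨3, by omega⟩) (by unfold Nodes.TypeD.Adj; simp)
      have f1 := adj_ne (σ := σ) (i := ⟨0, by omega⟩) (j := ⟨2, by omega⟩) (by simp)
      have f2 := adj_ne (σ := σ) (i := ⟨0, by omega⟩) (j := ⟨3, by omega⟩) (by simp)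
      have f3 := adj_ne (σ := σ) (i := ⟨2, by omega⟩) (j := ⟨3, by omega⟩) (by simp)
      unfold Nodes.TypeD.Adj at e1 e2 e3
      have : ((σ ⟨1, by omega⟩ : Fin 4) : ℕ) = 1 := by omega
      exact Fin.ext this
    have hM : ∀ ρ : Equiv.Perm (Fin 4), ρ 1 = 1 → ∀ i j, M 2 (ρ i) (ρ j) = M 2 i j := by
      simp only [M_apply]
      decide
    have h1M : ∀ i j, M 2 ((1 : Equiv.Perm (Fin 4)) i) ((1 : Equiv.Perm (Fin 4)) j) = M 2 i j := fun i j => rfl
    rcases perm_four σ hc with rfl | rfl | h | ⟨ρ, hρ, hc'⟩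
    · exact card_tw_one cs hσ
    · exact card_tw_swap cs hσ
    · exact (card_cube_le cs σ hσ h h1M).trans (card_tw_one cs h1M)
    · have h5 : ∀ i j, M 2 ((ρ * σ * ρ⁻¹) i) ((ρ * σ * ρ⁻¹) j) = M 2 i j := by
        rw [hc']; exact hM _ (by decide)
      refine (card_conj_le cs σ ρ hσ (hM ρ hρ) h5).trans ?_
      have h6 : ∀ (τ : Equiv.Perm (Fin 4)) (hτ : ∀ i j, M 2 (τ i) (τ j) = M 2 i j), τ = Equiv.swap 2 3 →
          Nat.card {w : W // hat cs τ hτ w = w⁻¹} ≤ sB (2 + 2) := by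
        rintro τ hτ rfl
        exact card_tw_swap cs hτ
      exact h6 _ h5 hc'
  exact card_tw_of_low cs hσ fun j hj => fix_low hσ (by omega) (n - 1 - j) j (by omega)

end Cfsg.Agent.H475.CoxD
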