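import Mathlib
import Cfsg.Agent.S0116
import Cfsg.Agent.S0205
import Cfsg.Agent.S0215
import Cfsg.Agent.Lib.Cores

/-!
In a finite nonabelian simple group some elementary abelian `2`-subgroup is normalised, but not
centralised, by an element of odd order.
-/

set_option autoImplicit false
open Cfsg

universe u

namespace Cfsg.Agent.H475.ElemFusion

open Subgroup

/-- Local lemma: if elements of odd order centralise the elementary abelian `2`-subgroups they normalise,
then `N_G(D)` centralises the involution `z`. -/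
theorem commute_of_tame {G : Type*} [Group G] [Finite G] (P : Sylow 2 G) {z : G} (hz2 : z * z = 1)
    (hzP : ∀ x ∈ P, x * z = z * x)
    (hno : ∀ E : Subgroup G, (∀ e ∈ E, e * e = 1) → ∀ t ∈ normalizer (E : Set G), Odd (orderOf t) →
      ∀ e ∈ E, e * t = t * e)
    (D : Subgroup G) (hDP : D ≤ P) (hzD : z ∈ D)
    (hidx : ¬ 2 ∣ ((P : Subgroup G) ⊓ normalizer (D : Set G)).relIndex (normalizer (D : Set G)))
    {x : G} (hx : x ∈ normalizer (D : Set G)) : x * z = z * x := by
  let E : Subgroup G :=
    { carrier := {e | e ∈ D ∧ (∀ d ∈ D, d * e = e * d) ∧ e * e = 1}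
      one_mem' := ⟨D.one_mem, by simp, by simp⟩
      mul_mem' := by
        rintro a b ⟨ha1, ha2, ha3⟩ ⟨hb1, hb2, hb3⟩
        refine ⟨D.mul_mem ha1 hb1, ?_, ?_⟩
        · intro d hd
          rw [← mul_assoc, ha2 d hd, mul_assoc, hb2 d hd, mul_assoc]
        · have h1 := ha2 b hb1
          calc a * b * (a * b) = a * (b * a) * b := by group
            _ = a * (a * b) * b := by rw [h1]
            _ = (a * a) * (b * b) := by group
            _ = 1 := by rw [ha3, hb3, one_mul]
      inv_mem' := by
        rintro a ⟨ha1, ha2, ha3⟩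
        have h1 : a⁻¹ = a := inv_eq_of_mul_eq_one_left ha3
        simp only [h1]
        exact ⟨ha1, ha2, ha3⟩ }
  have hE : ∀ e, e ∈ E ↔ e ∈ D ∧ (∀ d ∈ D, d * e = e * d) ∧ e * e = 1 := fun e => Iff.rfl
  have hzE : z ∈ E := (hE z).2 ⟨hzD, fun d hd => hzP d (hDP hd), hz2⟩
  have hNE : normalizer (D : Set G) ≤ normalizer (E : Set G) := by
    have key : ∀ y ∈ normalizer (D : Set G), ∀ e ∈ E, y * e * y⁻¹ ∈ E := by
      intro y hy e he
      rw [hE] at he ⊢
      refine ⟨(mem_normalizer_iff.1 hy e).1 he.1, ?_, ?_⟩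
      · intro d hd
        have h1 : y⁻¹ * d * y ∈ D := (mem_normalizer_iff''.1 hy d).1 hd
        have h2 := he.2.1 _ h1
        calc d * (y * e * y⁻¹) = y * ((y⁻¹ * d * y) * e) * y⁻¹ := by group
          _ = y * (e * (y⁻¹ * d * y)) * y⁻¹ := by rw [h2]
          _ = y * e * y⁻¹ * d := by group
      · calc y * e * y⁻¹ * (y * e * y⁻¹) = y * (e * e) * y⁻¹ := by group
          _ = 1 := by rw [he.2.2]; group
    intro y hy
    rw [mem_normalizer_iff]
    intro e
    refine ⟨key y hy e, fun h => ?_⟩
    have h1 := key y⁻¹ (inv_mem hy) _ h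
    have h2 : y⁻¹ * (y * e * y⁻¹) * y⁻¹⁻¹ = e := by group
    rwa [h2] at h1
  -- the centraliser of `z` in the normaliser
  set N : Subgroup G := normalizer (D : Set G) with hN
  let K : Subgroup N := (centralizer ({z} : Set G)).subgroupOf N
  have hK : K = ⊤ := by
    rw [← index_eq_one, Nat.eq_one_iff_not_exists_prime_dvd]
    intro p hp hpd
    by_cases hp2 : p = 2
    · subst hp2
      apply hidx
      refine hpd.trans ?_
      have h1 : ((P : Subgroup G) ⊓ N).subgroupOf N ≤ K := by
        intro y hy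
        have h2 : (y : G) ∈ (P : Subgroup G) := hy.1
        exact mem_centralizer_singleton_iff.2 (hzP _ h2)
      exact index_dvd_of_le h1
    · have : Fact p.Prime := ⟨hp⟩
      obtain ⟨R⟩ : Nonempty (Sylow p N) := inferInstance
      apply R.not_dvd_index
      refine hpd.trans (index_dvd_of_le ?_)
      intro y hy
      obtain ⟨n, hn⟩ := IsPGroup.iff_orderOf.1 R.isPGroup' ⟨y, hy⟩
      have h3 : orderOf (y : G) = p ^ n := by
        rw [Subgroup.orderOf_coe, ← hn]
        exact Subgroup.orderOf_coe (⟨y, hy⟩ : R)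
      have hodd : Odd (orderOf (y : G)) := by
        rw [h3]
        exact (hp.odd_of_ne_two hp2).pow
      exact mem_centralizer_singleton_iff.2 (hno E (fun e he => he.2.2) _ (hNE y.2) hodd z hzE).symm
  have h1 : (⟨x, hx⟩ : N) ∈ K := hK ▸ mem_top _
  exact mem_centralizer_singleton_iff.1 h1

theorem exists_elem {X : Type*} [Group X] [Finite X] [IsSimpleGroup X]
    (hna : ¬ ∀ a b : X, a * b = b * a) :
    ∃ E : Subgroup X, (∀ e ∈ E, e * e = 1) ∧ ∃ t ∈ normalizer (E : Set X), Odd (orderOf t) ∧
      ∃ e ∈ E, e * t ≠ t * e := by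
  by_contra hcon
  have hno : ∀ E : Subgroup X, (∀ e ∈ E, e * e = 1) → ∀ t ∈ normalizer (E : Set X), Odd (orderOf t) →
      ∀ e ∈ E, e * t = t * e := by
    intro E hE t ht hodd e he
    by_contra hne
    exact hcon ⟨E, hE, t, ht, hodd, e, he, hne⟩
  have hns : ¬ Group.IsSolvable X := fun h => hna (IsSimpleGroup.comm_iff_isSolvable.2 h)
  have heven : 2 ∣ Nat.card X := by
    by_contra h2
    exact hns (S0205.result (Nat.odd_iff.2 (by omega)))
  obtain ⟨P⟩ : Nonempty (Sylow 2 X) := inferInstance
  have hPne : (P : Subgroup X) ≠ ⊥ := P.ne_bot_of_dvd_card heven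
  -- a central involution of `P`
  obtain ⟨z, hzP, hz2, hzc⟩ : ∃ z : X, z ∈ P ∧ orderOf z = 2 ∧ ∀ x ∈ P, x * z = z * x := by
    have : Nontrivial (P : Subgroup X) := (Subgroup.nontrivial_iff_ne_bot _).2 hPne
    have h1 := P.isPGroup'.center_nontrivial
    have h2 : 2 ∣ Nat.card (Subgroup.center (P : Subgroup X)) := by
      obtain ⟨n, hn⟩ := IsPGroup.iff_card.1 (P.isPGroup'.to_subgroup (Subgroup.center (P : Subgroup X)))
      rw [hn]
      apply dvd_pow_self
      rintro rfl
      rw [pow_zero, Nat.card_eq_one_iff_unique] at hn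
      obtain ⟨hsub, _⟩ := hn
      exact not_subsingleton _ hsub
    obtain ⟨w, hw⟩ := exists_prime_orderOf_dvd_card' 2 h2
    refine ⟨((w : (P : Subgroup X)) : X), (w : (P : Subgroup X)).2, ?_, ?_⟩
    · rw [Subgroup.orderOf_coe, Subgroup.orderOf_coe]
      exact hw
    · intro x hx
      have := Subgroup.mem_center_iff.1 w.2 ⟨x, hx⟩
      exact congrArg Subtype.val this
  have hzz : z * z = 1 := by
    rw [← pow_two, ← hz2, pow_orderOf_eq_one]
  have hloc : ∀ D : Subgroup X, D ≤ P → z ∈ D →
      ¬ 2 ∣ ((P : Subgroup X) ⊓ normalizer (D : Set X)).relIndex (normalizer (D : Set X)) →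
      ∀ x ∈ normalizer (D : Set X), x * z = z * x := fun D hDP hzD hidx x hx =>
    commute_of_tame P hzz hzc hno D hDP hzD hidx hx
  -- `z` is isolated
  have hiso : ∀ g : X, g * z * g⁻¹ ∈ P → g * z * g⁻¹ = z := by
    intro g hg
    obtain ⟨n, Q, x, hprod, hx, h0, hstep⟩ := S0116.result P ({z} : Set X) g⁻¹
      (by simpa using hzP) (by simpa using hg)
    have key : ∀ i : ℕ, i ≤ n → (((List.ofFn x).take i).prod)⁻¹ * z * ((List.ofFn x).take i).prod = z := by
      intro i
      induction i with
      | zero => intro _; simp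
      | succ i ih =>
        intro hi
        have hi' : i < n := hi
        have h1 := ih hi'.le
        have htake : ((List.ofFn x).take (i + 1)).prod = ((List.ofFn x).take i).prod * x ⟨i, hi'⟩ := by
          rw [List.take_succ_eq_append_getElem (by simpa using hi')]
          simp
        have hzQ : z ∈ (P : Subgroup X) ⊓ (Q ⟨i, hi'⟩ : Subgroup X) := by
          rcases Nat.eq_zero_or_pos i with hi0 | hi0
          · subst hi0
            exact h0 hi' rfl
          · obtain ⟨j, rfl⟩ := Nat.exists_eq_succ_of_ne_zero hi0.ne'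
            have h2 := hstep ⟨j, by omega⟩ hi' (Set.mem_image_of_mem _ (Set.mem_singleton z))
            have h3 : (((List.ofFn x).take (j + 1)).prod)⁻¹ * z * ((List.ofFn x).take (j + 1)).prod = z := h1
            rw [h3] at h2
            exact h2
        have h2 := hloc _ inf_le_left hzQ (hx ⟨i, hi'⟩).2.1 _ (hx ⟨i, hi'⟩).1
        rw [htake]
        calc (((List.ofFn x).take i).prod * x ⟨i, hi'⟩)⁻¹ * z * (((List.ofFn x).take i).prod * x ⟨i, hi'⟩)
            = (x ⟨i, hi'⟩)⁻¹ * ((((List.ofFn x).take i).prod)⁻¹ * z * ((List.ofFn x).take i).prod) *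
              x ⟨i, hi'⟩ := by group
          _ = (x ⟨i, hi'⟩)⁻¹ * (z * x ⟨i, hi'⟩) := by rw [h1, mul_assoc]
          _ = z := by rw [← h2]; group
    have h1 := key n le_rfl
    have h2 : (List.ofFn x).take n = List.ofFn x := List.take_of_length_le (by simp)
    rw [h2, hprod, inv_inv] at h1
    exact h1
  obtain ⟨N, hN, hNodd, hNc⟩ := S0215.result P z hz2 hzP hiso
  rcases hN.eq_bot_or_eq_top with hNb | hNt
  · -- `z` is central
    have hzc' : z ∈ Subgroup.center X := by
      rw [Subgroup.mem_center_iff]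
      intro g
      have h1 := hNc g
      rw [hNb, Subgroup.mem_bot] at h1
      calc g * z = (z * g * z⁻¹ * g⁻¹)⁻¹ * (z * g) * z⁻¹ * z := by group
        _ = z * g := by rw [h1]; group
    rcases (inferInstance : (Subgroup.center X).Normal).eq_bot_or_eq_top with hb | ht
    · rw [hb, Subgroup.mem_bot] at hzc'
      rw [hzc', orderOf_one] at hz2
      omega
    · apply hna
      intro a b
      have : b ∈ Subgroup.center X := ht ▸ mem_top b
      exact Subgroup.mem_center_iff.1 this a
  · rw [hNt] at hNodd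
    rw [Subgroup.card_top] at hNodd
    rw [Nat.odd_iff] at hNodd
    omega

end Cfsg.Agent.H475.ElemFusion
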