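import Mathlib
import Cfsg.Prelude.Def_KGroupFacts

/-!
# Automorphisms fixing a class of `p'`-elements

`Fix p u`: the automorphism `u` fixes the conjugacy class of some nontrivial element of order prime to `p`.
`AllFix p N`: every automorphism of `N` of `p`-power order modulo inner automorphisms does so.
-/

set_option autoImplicit false

namespace Cfsg.Agent.H475.FixClass

/-- `u` fixes the conjugacy class of some nontrivial element of order prime to `p`. -/
def Fix (p : ℕ) {N : Type*} [Group N] (u : MulAut N) : Prop :=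
  ∃ c : N, c ≠ 1 ∧ (orderOf c).Coprime p ∧ IsConj c (u c)

/-- Every automorphism of `N` of `p`-power order modulo inner automorphisms fixes the class of a nontrivial
element of order prime to `p`. -/
def AllFix (p : ℕ) (N : Type*) [Group N] : Prop :=
  ∀ (u : MulAut N) (k : ℕ), u ^ p ^ k ∈ (MulAut.conj : N →* MulAut N).range → Fix p u

variable {N : Type*} [Group N]

theorem isConj_apply {N' : Type*} [Group N'] (e : N ≃* N') {a b : N} (h : IsConj a b) :
    IsConj (e a) (e b) := by
  rw [isConj_iff] at h ⊢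
  obtain ⟨c, hc⟩ := h
  exact ⟨e c, by rw [← hc]; simp⟩

theorem Fix.conj_mul {p : ℕ} {u : MulAut N} (h : Fix p u) (n : N) : Fix p (MulAut.conj n * u) := by
  obtain ⟨c, hc, ho, hu⟩ := h
  refine ⟨c, hc, ho, hu.trans ?_⟩
  rw [isConj_iff]
  exact ⟨n, by simp⟩

theorem Fix.of_conj_mul {p : ℕ} {u : MulAut N} {n : N} (h : Fix p (MulAut.conj n * u)) : Fix p u := by
  have := h.conj_mul n⁻¹
  rw [← mul_assoc, ← map_mul] at this
  simpa using this

theorem Fix.congr {N' : Type*} [Group N'] {p : ℕ} {u : MulAut N} (e : N ≃* N') (h : Fix p u) :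
    Fix p (MulAut.congr e u) := by
  obtain ⟨c, hc, ho, hu⟩ := h
  refine ⟨e c, by simpa using hc, by rw [MulEquiv.orderOf_eq]; exact ho, ?_⟩
  have h1 : (MulAut.congr e u) (e c) = e (u c) := by simp [MulAut.congr]
  rw [h1]
  exact isConj_apply e hu

theorem Fix.conj_aut {p : ℕ} {u : MulAut N} (h : Fix p u) (a : MulAut N) : Fix p (a * u * a⁻¹) := by
  obtain ⟨c, hc, ho, hu⟩ := h
  refine ⟨a c, by simpa using hc, by rw [MulEquiv.orderOf_eq]; exact ho, ?_⟩
  have h1 : (a * u * a⁻¹) (a c) = a (u c) := by simp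
  rw [h1]
  exact isConj_apply a hu

theorem AllFix.congr {N' : Type*} [Group N'] {p : ℕ} (e : N ≃* N') (h : AllFix p N) : AllFix p N' := by
  intro u k hu
  have h1 : Fix p (MulAut.congr e.symm u) := by
    apply h _ k
    obtain ⟨n, hn⟩ := hu
    refine ⟨e.symm n, ?_⟩
    rw [← map_pow, ← hn]
    ext x
    simp [MulAut.congr]
  have h2 := h1.congr e
  have h3 : MulAut.congr e (MulAut.congr e.symm u) = u := by
    ext x
    simp [MulAut.congr]
  rwa [h3] at h2

theorem allFix_congr {N' : Type*} [Group N'] {p : ℕ} (e : N ≃* N') : AllFix p N ↔ AllFix p N' :=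
  ⟨fun h => h.congr e, fun h => h.congr e.symm⟩

/-- A finite nonabelian simple group has a nontrivial element of order prime to the prime `p`. -/
theorem exists_coprime [Finite N] [IsSimpleGroup N] (hna : ¬ IsMulCommutative N) {p : ℕ} (hp : p.Prime) :
    ∃ c : N, c ≠ 1 ∧ (orderOf c).Coprime p := by
  by_contra hcon
  push Not at hcon
  have : Fact p.Prime := ⟨hp⟩
  have hpg : IsPGroup p N := by
    rw [IsPGroup.iff_orderOf]
    intro g
    refine ⟨_, Nat.eq_prime_pow_of_unique_prime_dvd (orderOf_pos g).ne' ?_⟩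
    intro r hr hrg
    by_contra hne
    set m := orderOf g / r with hm
    have hm0 : orderOf (g ^ m) = r := by
      have h1 : m ≠ 0 := by
        have : 0 < m := Nat.div_pos (Nat.le_of_dvd (orderOf_pos _) hrg) hr.pos
        omega
      rw [orderOf_pow_of_dvd h1 (Nat.div_dvd_of_dvd hrg)]
      exact Nat.div_div_self hrg (orderOf_pos _).ne'
    have h2 : g ^ m ≠ 1 := by
      intro h
      rw [h, orderOf_one] at hm0
      exact hr.one_lt.ne hm0
    apply hcon _ h2
    rw [hm0]
    exact (Nat.coprime_primes hr hp).2 hne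
  have hns : Group.IsSolvable N := by
    have := hpg.isNilpotent
    infer_instance
  have hc : ∀ a b : N, a * b = b * a := IsSimpleGroup.comm_iff_isSolvable.2 hns
  exact hna ⟨⟨hc⟩⟩

theorem fix_of_inner [Finite N] [IsSimpleGroup N] (hna : ¬ IsMulCommutative N) {p : ℕ} (hp : p.Prime)
    {u : MulAut N} (hu : u ∈ (MulAut.conj : N →* MulAut N).range) : Fix p u := by
  obtain ⟨n, rfl⟩ := hu
  obtain ⟨c, hc, ho⟩ := exists_coprime hna hp
  exact ⟨c, hc, ho, isConj_iff.2 ⟨n, by simp⟩⟩

/-- If `|Out N|` is prime to `p`. -/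
theorem allFix_of_card_out [Finite N] [IsSimpleGroup N] (hna : ¬ IsMulCommutative N) {p : ℕ} (hp : p.Prime)
    (h : (Nat.card (Cfsg.Out N)).Coprime p) : AllFix p N := by
  intro u k hu
  refine fix_of_inner hna hp ?_
  have h1 : (QuotientGroup.mk u : Cfsg.Out N) ^ p ^ k = 1 := by
    rw [← QuotientGroup.mk_pow, QuotientGroup.eq_one_iff]
    exact hu
  have h2 : (QuotientGroup.mk u : Cfsg.Out N) ^ Nat.card (Cfsg.Out N) = 1 := pow_card_eq_one'
  have h3 : (QuotientGroup.mk u : Cfsg.Out N) ^ (Nat.gcd (Nat.card (Cfsg.Out N)) (p ^ k)) = 1 := by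
    rw [pow_gcd_eq_one]
    exact ⟨h2, h1⟩
  rw [Nat.Coprime.pow_right k h, pow_one, QuotientGroup.eq_one_iff] at h3
  exact h3

/-- If all elements of order `r` (a prime different from `p`, dividing the order) are conjugate. -/
theorem allFix_of_isConj [Finite N] {p r : ℕ} (hp : p.Prime) (hr : r.Prime) (hrp : r ≠ p)
    (hrN : r ∣ Nat.card N) (h : ∀ a b : N, orderOf a = r → orderOf b = r → IsConj a b) : AllFix p N := by
  intro u k _
  have : Fact r.Prime := ⟨hr⟩
  obtain ⟨c, hc⟩ := exists_prime_orderOf_dvd_card' r hrN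
  refine ⟨c, ?_, ?_, h _ _ hc ?_⟩
  · rintro rfl
    rw [orderOf_one] at hc
    exact hr.one_lt.ne hc
  · rw [hc]
    exact (Nat.coprime_primes hr hp).2 hrp
  · rw [MulEquiv.orderOf_eq]
    exact hc

end Cfsg.Agent.H475.FixClass
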