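import Mathlib
import Cfsg.Agent.Lib.Cores
import Cfsg.Agent.Lib.SolvableNormalP

/-!
Left-normed commutator values, and a Baumslag–Wiegold type condition on them.
-/

set_option autoImplicit false
open Cfsg

universe u

namespace Cfsg.Agent.H475.GammaVal

open Subgroup
open scoped commutatorElement

/-- Left-normed commutator values of length `k + 1`. -/
def V {G : Type*} [Group G] : ℕ → G → Prop
  | 0, _ => True
  | k + 1, x => ∃ c g : G, V k c ∧ x = ⁅c, g⁆

theorem V_iff {G : Type*} [Group G] : ∀ (k : ℕ) (x : G),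
    (∃ f : Fin (k + 1) → G, x = ((List.ofFn f).tail).foldl (fun a b => a * b * a⁻¹ * b⁻¹) (f 0)) ↔
      V k x
  | 0, x => by
    simp only [V, iff_true]
    exact ⟨fun _ => x, by simp⟩
  | k + 1, x => by
    have key : ∀ f : Fin (k + 2) → G,
        ((List.ofFn f).tail).foldl (fun a b => a * b * a⁻¹ * b⁻¹) (f 0) =
          ⁅((List.ofFn (fun i : Fin (k + 1) => f i.castSucc)).tail).foldl
            (fun a b => a * b * a⁻¹ * b⁻¹) (f 0), f (Fin.last (k + 1))⁆ := by
      intro f
      rw [List.ofFn_succ, List.tail_cons, List.ofFn_succ (f := fun i : Fin (k + 1) => f i.castSucc),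
        List.tail_cons, List.ofFn_succ', List.concat_eq_append, List.foldl_append]
      simp only [List.foldl_cons, List.foldl_nil, Fin.succ_last, commutatorElement_def,
        Fin.succ_castSucc]
    constructor
    · rintro ⟨f, rfl⟩
      refine ⟨_, _, (V_iff k _).1 ⟨fun i => f i.castSucc, rfl⟩, key f⟩
    · rintro ⟨c, g, hc, rfl⟩
      obtain ⟨f, hf⟩ := (V_iff k c).2 hc
      refine ⟨Fin.snoc (α := fun _ => G) f g, ?_⟩
      rw [key]
      simp only [Fin.snoc_castSucc, Fin.snoc_last]
      rw [hf]
      rfl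

theorem V_map {G H : Type*} [Group G] [Group H] (φ : G →* H) : ∀ (k : ℕ) {x : G}, V k x → V k (φ x)
  | 0, _, _ => trivial
  | k + 1, _, ⟨c, g, hc, hx⟩ => ⟨φ c, φ g, V_map φ k hc, by rw [hx, map_commutatorElement]⟩

theorem V_conj {G : Type*} [Group G] (k : ℕ) {x : G} (h : V k x) (g : G) : V k (g * x * g⁻¹) := by
  have := V_map (MulAut.conj g).toMonoidHom k h
  simpa using this

theorem V_anti {G : Type*} [Group G] : ∀ (k : ℕ) {x : G}, V (k + 1) x → V k x
  | 0, _, _ => trivial
  | k + 1, _, ⟨c, g, hc, hx⟩ => ⟨c, g, V_anti k hc, hx⟩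

/-- Iterated commutation with `a`. -/
def phi {G : Type*} [Group G] (a : G) (z : G) : G := ⁅z, a⁆

theorem V_iter {G : Type*} [Group G] (a z : G) : ∀ k : ℕ, V k ((phi a)^[k] z)
  | 0 => trivial
  | k + 1 => ⟨_, a, V_iter a z k, by rw [Function.iterate_succ_apply']; rfl⟩

theorem mem_iter {G : Type*} [Group G] {N : Subgroup G} {a : G} (ha : a ∈ normalizer (N : Set G))
    {z : G} (hz : z ∈ N) : ∀ k : ℕ, (phi a)^[k] z ∈ N
  | 0 => hz
  | k + 1 => by
    rw [Function.iterate_succ_apply']
    have h1 := mem_iter ha hz k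
    have h2 : a * ((phi a)^[k] z)⁻¹ * a⁻¹ ∈ N := (mem_normalizer_iff.1 ha _).1 (N.inv_mem h1)
    have h3 : phi a ((phi a)^[k] z) = (phi a)^[k] z * (a * ((phi a)^[k] z)⁻¹ * a⁻¹) := by
      simp only [phi, commutatorElement_def]; group
    rw [h3]
    exact N.mul_mem h1 h2

/-- The elementwise coprime action argument. -/
theorem phi_eq_one_of_sq {G : Type*} [Group G] {N : Subgroup G} {a : G}
    (ha : a ∈ normalizer (N : Set G)) (hcop : (Nat.card N).Coprime (orderOf a))
    {z : G} (hz : z ∈ N) (h : phi a (phi a z) = 1) : phi a z = 1 := by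
  set w := phi a z with hw
  have hwN : w ∈ N := mem_iter ha hz 1
  have hcomm : w * a = a * w := by
    have h1 : ⁅w, a⁆ = 1 := h
    exact commutatorElement_eq_one_iff_mul_comm.1 h1
  have h1 : z * a * z⁻¹ = w * a := by
    rw [hw]; simp only [phi, commutatorElement_def]; group
  have h2 : (w * a) ^ orderOf a = 1 := by
    rw [← h1, conj_pow, pow_orderOf_eq_one]; group
  rw [(show Commute w a from hcomm).mul_pow, pow_orderOf_eq_one, mul_one] at h2
  have h3 : orderOf w ∣ orderOf a := orderOf_dvd_of_pow_eq_one h2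
  have h4 : orderOf w ∣ Nat.card N := by
    have := orderOf_dvd_natCard (⟨w, hwN⟩ : N)
    rwa [← Subgroup.orderOf_coe] at this
  have h5 : orderOf w ∣ 1 := by
    rw [← hcop]
    exact Nat.dvd_gcd h4 h3
  exact orderOf_eq_one_iff.1 (Nat.dvd_one.1 h5)

theorem phi_eq_one_of_iter {G : Type*} [Group G] {N : Subgroup G} {a : G}
    (ha : a ∈ normalizer (N : Set G)) (hcop : (Nat.card N).Coprime (orderOf a))
    {z : G} (hz : z ∈ N) : ∀ k : ℕ, (phi a)^[k + 1] z = 1 → phi a z = 1
  | 0, h => h
  | k + 1, h => by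
    refine phi_eq_one_of_iter ha hcop hz k ?_
    rw [Function.iterate_succ_apply', Function.iterate_succ_apply'] at h
    rw [Function.iterate_succ_apply']
    exact phi_eq_one_of_sq ha hcop (mem_iter ha hz k) h

/-- The condition on values of coprime orders. -/
def Cond (G : Type*) [Group G] (k : ℕ) : Prop :=
  ∀ x y : G, V k x → V k y → (orderOf x).Coprime (orderOf y) →
    (∀ r : ℕ, r.Prime → r ∣ orderOf x * orderOf y → r ∣ orderOf (x * y)) ∨
      orderOf x * orderOf y ≤ orderOf (x * y)

theorem Cond.subgroup {G : Type*} [Group G] {k : ℕ} (h : Cond G k) (H : Subgroup G) : Cond H k := by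
  intro x y hx hy hcop
  have h1 := h x y (V_map H.subtype k hx) (V_map H.subtype k hy)
    (by rw [Subgroup.orderOf_coe, Subgroup.orderOf_coe]; exact hcop)
  rw [← Subgroup.coe_mul, Subgroup.orderOf_coe, Subgroup.orderOf_coe, Subgroup.orderOf_coe] at h1
  exact h1

/-- A value centralises every subgroup of coprime order that it normalises. -/
theorem Cond.commute {G : Type*} [Group G] [Finite G] {k : ℕ} (h : Cond G k) {a : G} (ha : V k a)
    {N : Subgroup G} (haN : a ∈ normalizer (N : Set G))
    (hcop : (Nat.card N).Coprime (orderOf a)) {z : G} (hz : z ∈ N) : z * a = a * z := by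
  have h1 : phi a z = 1 := by
    refine phi_eq_one_of_iter haN hcop hz k ?_
    set x := (phi a)^[k + 1] z with hx
    have hxN : x ∈ N := mem_iter haN hz (k + 1)
    have hxV : V k x := by
      rw [hx, Function.iterate_succ_apply]
      exact V_iter a _ k
    have hxa : orderOf (x * a) = orderOf a := by
      have : x * a = ((phi a)^[k] z) * a * ((phi a)^[k] z)⁻¹ := by
        rw [hx, Function.iterate_succ_apply']
        simp only [phi, commutatorElement_def]; group
      rw [this]
      have h2 := orderOf_injective (MulAut.conj ((phi a)^[k] z)).toMonoidHom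
        (MulAut.conj ((phi a)^[k] z)).injective a
      simpa using h2
    have h4 : orderOf x ∣ Nat.card N := by
      have := orderOf_dvd_natCard (⟨x, hxN⟩ : N)
      rwa [← Subgroup.orderOf_coe] at this
    have hc : (orderOf x).Coprime (orderOf a) := Nat.Coprime.coprime_dvd_left h4 hcop
    rw [← orderOf_eq_one_iff]
    rcases h x a hxV ha hc with h5 | h5
    · by_contra hne
      obtain ⟨r, hr, hrx⟩ := Nat.exists_prime_and_dvd hne
      have h6 := h5 r hr (hrx.mul_right _)
      rw [hxa] at h6
      have := Nat.dvd_gcd hrx h6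
      rw [hc] at this
      exact hr.one_lt.ne' (Nat.dvd_one.1 this)
    · rw [hxa] at h5
      have h6 : 0 < orderOf a := orderOf_pos a
      have h7 : 0 < orderOf x := orderOf_pos x
      nlinarith
  exact commutatorElement_eq_one_iff_mul_comm.1 h1

/-- Values lie in the lower central series. -/
theorem V_mem {G : Type*} [Group G] : ∀ (k : ℕ) {x : G}, V k x →
    x ∈ (⊤ : Subgroup G).lowerCentralSeries k
  | 0, _, _ => mem_top _
  | k + 1, _, ⟨c, g, hc, hx⟩ => by
    rw [hx, Subgroup.lowerCentralSeries_succ]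
    exact commutator_mem_commutator (V_mem k hc) (mem_top g)

end Cfsg.Agent.H475.GammaVal
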