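import Mathlib
import Cfsg.Agent.H475.GammaVal

/-!
The solvable case of the nilpotency criterion for `γ_{k+1}(G)`.
-/

set_option autoImplicit false
open Cfsg

universe u

namespace Cfsg.Agent.H475.GammaSol

open Subgroup
open scoped commutatorElement
open Cfsg.Agent.H475.GammaVal Cfsg.Agent.Lib.Cores

variable {G : Type*} [Group G] [Finite G]

theorem fitting_le (p : ℕ) [hp : Fact p.Prime] :
    fittingSubgroup G ≤ pCore p G ⊔ pPrimeCore p G := by
  rw [fittingSubgroup_eq_iSup_pCore]
  refine iSup_le fun q => ?_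
  by_cases hq : (q : ℕ) = p
  · rw [hq]
    exact le_sup_left
  · refine le_trans ?_ le_sup_right
    have : Fact (q : ℕ).Prime := ⟨q.2⟩
    refine le_pPrimeCore (pCore_normal _) ?_
    obtain ⟨n, hn⟩ := IsPGroup.iff_card.1 (pCore_isPGroup (G := G) (q : ℕ))
    rw [hn]
    exact Nat.Coprime.pow_left _ ((Nat.coprime_primes q.2 hp.out).2 hq)

/-- A Frattini-type statement: a normal subgroup `L ≥ F` with `L / F` a `p`-group is `F P`, `P` a Sylow
`p`-subgroup, and `G = F N_G(P)`. -/
theorem frattini {p : ℕ} [hp : Fact p.Prime] (F L : Subgroup G) [F.Normal] [L.Normal] (hFL : F ≤ L)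
    (hL : IsPGroup p (L.map (QuotientGroup.mk' F))) (P : Sylow p L) :
    L = F ⊔ (P : Subgroup L).map L.subtype ∧
      normalizer (((P : Subgroup L).map L.subtype : Subgroup G) : Set G) ⊔ F = ⊤ := by
  have h1 : L = F ⊔ (P : Subgroup L).map L.subtype := by
    apply le_antisymm
    · -- the image of `P` is everything
      let f : L →* L.map (QuotientGroup.mk' F) := (QuotientGroup.mk' F).subgroupMap L
      have hf : Function.Surjective f := (QuotientGroup.mk' F).subgroupMap_surjective L
      have h2 : ((P.mapSurjective hf : Sylow p _) : Subgroup (L.map (QuotientGroup.mk' F))) = ⊤ := by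
        have h3 : IsPGroup p (⊤ : Subgroup (L.map (QuotientGroup.mk' F))) := fun x => by
          obtain ⟨k, hk⟩ := hL x.1
          exact ⟨k, Subtype.ext (by simpa using hk)⟩
        exact ((P.mapSurjective hf).is_maximal' h3 le_top).symm
      intro x hx
      have h3 : f ⟨x, hx⟩ ∈ ((P.mapSurjective hf : Sylow p _) : Subgroup _) := by
        rw [h2]; exact mem_top _
      rw [Sylow.coe_mapSurjective] at h3
      obtain ⟨y, hy, hyx⟩ := h3
      have h4 : QuotientGroup.mk' F (y : G) = QuotientGroup.mk' F x := congrArg Subtype.val hyx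
      have h5 : (y : G)⁻¹ * x ∈ F := by
        rw [← QuotientGroup.eq]
        exact h4
      have h6 : x = (x * (y : G)⁻¹) * y := by group
      rw [h6]
      refine Subgroup.mul_mem_sup ?_ ⟨y, hy, rfl⟩
      have h7 := (inferInstance : F.Normal).conj_mem _ h5 (y : G)
      have h8 : (y : G) * ((y : G)⁻¹ * x) * (y : G)⁻¹ = x * (y : G)⁻¹ := by group
      rwa [h8] at h7
    · refine sup_le hFL ?_
      rintro _ ⟨y, _, rfl⟩
      exact y.2
  refine ⟨h1, ?_⟩
  have h2 : normalizer (((P : Subgroup L).map L.subtype : Subgroup G) : Set G) ⊔ L = ⊤ :=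
    Sylow.normalizer_sup_eq_top P
  rw [eq_top_iff, ← h2]
  refine sup_le le_sup_left ?_
  conv_lhs => rw [h1]
  exact sup_le le_sup_right (Subgroup.le_normalizer.trans le_sup_left)

/-- The centraliser of `O_{p'}(G)` inside a normal `p`-extension of `F(G)` is contained in `F(G)`. -/
theorem inf_centralizer_le {p : ℕ} [hp : Fact p.Prime] (L : Subgroup G) [L.Normal]
    (hFL : fittingSubgroup G ≤ L) [hFn : (fittingSubgroup G).Normal]
    (hL : IsPGroup p (L.map (QuotientGroup.mk' (fittingSubgroup G)))) :
    L ⊓ centralizer ((pPrimeCore p G : Subgroup G) : Set G) ≤ fittingSubgroup G := by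
  have hDn : (pPrimeCore p G).Normal := pPrimeCore_normal p
  set D := pPrimeCore p G with hD
  set C : Subgroup G := L ⊓ centralizer (D : Set G) with hC
  have hCn : C.Normal := by
    rw [hC]
    exact inferInstance
  refine le_fittingSubgroup hCn ?_
  obtain ⟨P⟩ : Nonempty (Sylow p L) := inferInstance
  obtain ⟨h1, -⟩ := frattini (fittingSubgroup G) L hFL hL P
  -- `L ≤ D P`
  have hOP : pCore p G ≤ (P : Subgroup L).map L.subtype := by
    have h2 : pCore p G ≤ L := (pCore_le_fittingSubgroup p).trans hFL
    have h3 : (pCore p G).subgroupOf L ≤ P := by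
      have : ((pCore p G).subgroupOf L).Normal := inferInstance
      refine IsPGroup.le_sylow_of_normal ?_ P
      exact (pCore_isPGroup p).comap_of_injective _ L.subtype_injective
    intro x hx
    exact ⟨⟨x, h2 hx⟩, h3 hx, rfl⟩
  have hLD : L ≤ D ⊔ (P : Subgroup L).map L.subtype := by
    conv_lhs => rw [h1]
    refine sup_le ((fitting_le p).trans (sup_le ?_ le_sup_left)) le_sup_right
    exact hOP.trans le_sup_right
  -- the map `C → G / D`
  let f : C →* G ⧸ D := (QuotientGroup.mk' D).comp C.subtype
  have hker : f.ker ≤ Subgroup.center C := by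
    intro x hx
    have hxD : (x : G) ∈ D := by
      have : QuotientGroup.mk' D (x : G) = 1 := hx
      rwa [← MonoidHom.mem_ker, QuotientGroup.ker_mk'] at this
    rw [Subgroup.mem_center_iff]
    intro y
    have hy : (y : G) ∈ centralizer (D : Set G) := y.2.2
    exact Subtype.ext ((mem_centralizer_iff.1 hy (x : G) hxD).symm)
  have hker' : f.rangeRestrict.ker ≤ Subgroup.center C := by
    rwa [MonoidHom.ker_rangeRestrict]
  have hrange : IsPGroup p f.range := by
    rintro ⟨_, y, rfl⟩
    have hy : (y : G) ∈ D ⊔ (P : Subgroup L).map L.subtype := hLD y.2.1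
    obtain ⟨d, hd, x, hx, hdx⟩ := Subgroup.mem_sup_of_normal_left.1 hy
    obtain ⟨z, hz, hzx⟩ := hx
    obtain ⟨k, hk⟩ := P.isPGroup' ⟨z, hz⟩
    refine ⟨k, ?_⟩
    apply Subtype.ext
    have h2 : f y = QuotientGroup.mk' D x := by
      change QuotientGroup.mk' D (y : G) = _
      rw [← hdx, map_mul]
      have : QuotientGroup.mk' D d = 1 := by
        rwa [← MonoidHom.mem_ker, QuotientGroup.ker_mk']
      rw [this, one_mul]
    change (f y) ^ p ^ k = 1
    rw [h2, ← map_pow]
    have h3 : x ^ p ^ k = 1 := by
      have h4 : z ^ p ^ k = 1 := congrArg Subtype.val hk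
      rw [← hzx]
      change (z : G) ^ p ^ k = 1
      rw [← Subgroup.coe_pow, h4, Subgroup.coe_one]
    rw [h3, map_one]
  have := hrange.isNilpotent
  exact Subgroup.isNilpotent_of_ker_le_center _ hker'

/-- The image in `G / F(G)` of a normal `p`-extension of `F(G)` is in the `k`-th centre. -/
theorem map_le {k : ℕ} (h : Cond G k) {p : ℕ} [hp : Fact p.Prime] (L : Subgroup G) [L.Normal]
    (hFL : fittingSubgroup G ≤ L) [hFn : (fittingSubgroup G).Normal]
    (hL : IsPGroup p (L.map (QuotientGroup.mk' (fittingSubgroup G)))) :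
    L.map (QuotientGroup.mk' (fittingSubgroup G)) ≤
      Subgroup.upperCentralSeries (G ⧸ fittingSubgroup G) k := by
  have hDn : (pPrimeCore p G).Normal := pPrimeCore_normal p
  obtain ⟨P⟩ : Nonempty (Sylow p L) := inferInstance
  obtain ⟨h1, h2⟩ := frattini (fittingSubgroup G) L hFL hL P
  set P0 : Subgroup G := (P : Subgroup L).map L.subtype with hP0
  have hP0p : IsPGroup p P0 := P.isPGroup'.map _
  -- values in `P0`
  have key : ∀ j i : ℕ, i + j = k → ∀ c ∈ P0, V i c →
      QuotientGroup.mk' (fittingSubgroup G) c ∈ Subgroup.upperCentralSeries (G ⧸ fittingSubgroup G) j := by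
    intro j
    induction j with
    | zero =>
      intro i hi c hc hcV
      rw [add_zero] at hi
      subst hi
      have h3 : c ∈ L ⊓ centralizer ((pPrimeCore p G : Subgroup G) : Set G) := by
        refine ⟨?_, ?_⟩
        · obtain ⟨y, _, rfl⟩ := hc
          exact y.2
        · change c ∈ centralizer _
          rw [mem_centralizer_iff]
          intro z hz
          refine h.commute hcV (N := pPrimeCore p G) ?_ ?_ hz
          · rw [Subgroup.normalizer_eq_top_iff.2 hDn]; exact mem_top c
          · obtain ⟨n, hn⟩ := IsPGroup.iff_orderOf.1 hP0p ⟨c, hc⟩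
            rw [← Subgroup.orderOf_coe] at hn
            change orderOf c = _ at hn
            rw [hn]
            exact (pPrimeCore_coprime p).pow_right n
      have h4 := inf_centralizer_le L hFL hL h3
      rw [Subgroup.upperCentralSeries_zero, Subgroup.mem_bot, ← MonoidHom.mem_ker, QuotientGroup.ker_mk']
      exact h4
    | succ j ih =>
      intro i hi c hc hcV
      rw [Subgroup.mem_upperCentralSeries_succ_iff]
      intro y
      obtain ⟨y, rfl⟩ := QuotientGroup.mk'_surjective _ y
      have hy : y ∈ normalizer (P0 : Set G) ⊔ fittingSubgroup G := h2 ▸ mem_top y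
      obtain ⟨t, ht, f, hf, hy⟩ := Subgroup.mem_sup_of_normal_right.1 hy
      have hyt : QuotientGroup.mk' (fittingSubgroup G) y =
          QuotientGroup.mk' (fittingSubgroup G) t := by
        rw [← hy, map_mul]
        have : QuotientGroup.mk' (fittingSubgroup G) f = 1 := by
          rwa [← MonoidHom.mem_ker, QuotientGroup.ker_mk']
        rw [this, mul_one]
      rw [hyt, ← map_commutatorElement]
      refine ih (i + 1) (by omega) _ ?_ ⟨c, t, hcV, rfl⟩
      rw [commutatorElement_def]
      have h5 : t * c⁻¹ * t⁻¹ ∈ P0 := (mem_normalizer_iff.1 ht _).1 (P0.inv_mem hc)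
      have h6 : c * t * c⁻¹ * t⁻¹ = c * (t * c⁻¹ * t⁻¹) := by group
      rw [h6]
      exact P0.mul_mem hc h5
  rintro _ ⟨x, hx, rfl⟩
  rw [SetLike.mem_coe, h1] at hx
  obtain ⟨f, hf, c, hc, rfl⟩ := Subgroup.mem_sup_of_normal_left.1 hx
  rw [map_mul]
  have : QuotientGroup.mk' (fittingSubgroup G) f = 1 := by
    rwa [← MonoidHom.mem_ker, QuotientGroup.ker_mk']
  rw [this, one_mul]
  exact key k 0 (by omega) c hc trivial

/-- If the Fitting subgroup of a finite solvable group is in a term of the upper central series, that term is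
everything. -/
theorem upper_eq_top {X : Type*} [Group X] [Finite X] [Group.IsSolvable X] {k : ℕ}
    (h : fittingSubgroup X ≤ Subgroup.upperCentralSeries X k) : Subgroup.upperCentralSeries X k = ⊤ := by
  have hFn : (fittingSubgroup X).Normal := fittingSubgroup_normal
  by_contra hne
  have hF : fittingSubgroup X ≠ ⊤ := fun hF => hne (top_le_iff.1 (hF ▸ h))
  have : Nontrivial (X ⧸ fittingSubgroup X) := QuotientGroup.nontrivial_iff.2 hF
  obtain ⟨p, N, hp, hN, hNp, hNab, hNbot⟩ := Lib.SolvableNormalP.exists_normal_pSubgroup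
    (X ⧸ fittingSubgroup X)
  set M : Subgroup X := N.comap (QuotientGroup.mk' (fittingSubgroup X)) with hM
  have hMF : ⁅M, M⁆ ≤ fittingSubgroup X := by
    rw [Subgroup.commutator_le]
    intro a ha b hb
    rw [← QuotientGroup.ker_mk' (fittingSubgroup X), MonoidHom.mem_ker, map_commutatorElement,
      commutatorElement_eq_one_iff_mul_comm]
    exact congrArg Subtype.val (hNab.is_comm.comm (⟨_, ha⟩ : N) ⟨_, hb⟩)
  have h1 : ∀ j i : ℕ, i + j = k → M.lowerCentralSeries (j + 1) ≤ Subgroup.upperCentralSeries X i := by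
    intro j
    induction j with
    | zero =>
      intro i hi
      rw [add_zero] at hi
      subst hi
      exact hMF.trans h
    | succ j ih =>
      intro i hi
      rw [Subgroup.lowerCentralSeries_succ]
      refine (commutator_mono (ih (i + 1) (by omega)) le_top).trans ?_
      exact Subgroup.commutator_upperCentralSeries_top_le X i
  have h2 : Group.IsNilpotent M := by
    rw [isNilpotent_iff_lowerCentralSeries]
    exact ⟨k + 1, by simpa using h1 k 0 (by omega)⟩
  have h3 : M ≤ fittingSubgroup X := le_fittingSubgroup inferInstance h2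
  apply hNbot
  rw [eq_bot_iff]
  intro x hx
  obtain ⟨y, rfl⟩ := QuotientGroup.mk'_surjective _ x
  have : y ∈ M := hx
  rw [Subgroup.mem_bot, ← MonoidHom.mem_ker, QuotientGroup.ker_mk']
  exact h3 this

/-- The solvable case. -/
theorem isNilpotent_of_solvable [Group.IsSolvable G] {k : ℕ} (h : Cond G k) :
    Group.IsNilpotent ((⊤ : Subgroup G).lowerCentralSeries k) := by
  have hFn : (fittingSubgroup G).Normal := fittingSubgroup_normal
  have h1 : Subgroup.upperCentralSeries (G ⧸ fittingSubgroup G) k = ⊤ := by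
    apply upper_eq_top
    refine (fittingSubgroup_eq_iSup_pCore (G := G ⧸ fittingSubgroup G)).le.trans ?_
    refine iSup_le fun p => ?_
    have : Fact (p : ℕ).Prime := ⟨p.2⟩
    have hn := pCore_normal (G := G ⧸ fittingSubgroup G) (p : ℕ)
    have h2 : ((pCore (p : ℕ) (G ⧸ fittingSubgroup G)).comap
        (QuotientGroup.mk' (fittingSubgroup G))).map (QuotientGroup.mk' (fittingSubgroup G)) =
        pCore (p : ℕ) (G ⧸ fittingSubgroup G) :=
      Subgroup.map_comap_eq_self_of_surjective (QuotientGroup.mk'_surjective _) _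
    conv_lhs => rw [← h2]
    refine map_le (p := (p : ℕ)) h _ ?_ ?_
    · intro x hx
      rw [Subgroup.mem_comap]
      have : QuotientGroup.mk' (fittingSubgroup G) x = 1 := by
        rwa [← MonoidHom.mem_ker, QuotientGroup.ker_mk']
      rw [this]
      exact one_mem _
    · rw [h2]
      exact pCore_isPGroup _
  rw [← Subgroup.lowerCentralSeries_eq_bot_iff_upperCentralSeries_eq_top] at h1
  have h2 : (⊤ : Subgroup G).lowerCentralSeries k ≤ fittingSubgroup G := by
    have h3 : ((⊤ : Subgroup G).lowerCentralSeries k).map (QuotientGroup.mk' (fittingSubgroup G)) =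
        ⊥ := by
      rw [Subgroup.map_lowerCentralSeries, Subgroup.map_top_of_surjective _ (QuotientGroup.mk'_surjective _),
        h1]
    rw [Subgroup.map_eq_bot_iff, QuotientGroup.ker_mk'] at h3
    exact h3
  have h3 : Group.IsNilpotent (fittingSubgroup G) := fittingSubgroup_isNilpotent
  rw [isNilpotent_iff_lowerCentralSeries] at h3 ⊢
  obtain ⟨n, hn⟩ := h3
  refine ⟨n, ?_⟩
  rw [eq_bot_iff, ← hn]
  exact Subgroup.lowerCentralSeries_mono n h2

end Cfsg.Agent.H475.GammaSol
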